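import Groth.Agent.FlatMor.K253.CotBC

/-!
# `H^{-1}(NL(P) ⊗_S S')` is independent of the presentation `P`
-/

set_option autoImplicit false
universe u

open TensorProduct

namespace K253.BcH1

variable {R S : Type u} [CommRing R] [CommRing S] [Algebra R S] (S' : Type u) [CommRing S']
  [Algebra S S']

section

variable {P P' P'' : Algebra.Extension.{u} R S}

/-- the map induced on `H^{-1}(NL ⊗ S')` by a morphism of extensions of `S` over `R` -/
noncomputable def mapBc (f : P.Hom P') : NLCx.bcH1 P S' →ₗ[S'] NLCx.bcH1 P' S' :=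
  ((Algebra.Extension.Cotangent.map f).baseChange S').restrict (fun x hx => by
    rw [NLCx.bcH1, LinearMap.mem_ker] at hx ⊢
    have key : P'.cotangentComplex.baseChange S' ∘ₗ
        (Algebra.Extension.Cotangent.map f).baseChange S' =
        (Algebra.Extension.CotangentSpace.map f).baseChange S' ∘ₗ
          P.cotangentComplex.baseChange S' := by
      rw [← LinearMap.baseChange_comp, ← LinearMap.baseChange_comp]
      congr 1
      exact (Algebra.Extension.CotangentSpace.map_comp_cotangentComplex f).symm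
    have := LinearMap.congr_fun key x
    rw [LinearMap.comp_apply, LinearMap.comp_apply, hx, map_zero] at this
    exact this)

theorem mapBc_coe (f : P.Hom P') (x : NLCx.bcH1 P S') :
    (mapBc S' f x).1 = (Algebra.Extension.Cotangent.map f).baseChange S' x.1 := rfl

theorem mapBc_eq (f g : P.Hom P') : mapBc S' f = mapBc S' g := by
  refine LinearMap.ext fun x => Subtype.ext ?_
  have hsub : (Algebra.Extension.Cotangent.map f).baseChange S' -
      (Algebra.Extension.Cotangent.map g).baseChange S' =
      (f.sub g).baseChange S' ∘ₗ P.cotangentComplex.baseChange S' := by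
    rw [← LinearMap.baseChange_comp, ← LinearMap.baseChange_sub]
    congr 1
    exact Algebra.Extension.Cotangent.map_sub_map f g
  have h := LinearMap.congr_fun hsub x.1
  have hx : P.cotangentComplex.baseChange S' x.1 = 0 := x.2
  rw [LinearMap.sub_apply, LinearMap.comp_apply, hx, map_zero, sub_eq_zero] at h
  exact h

theorem mapBc_id (x : NLCx.bcH1 P S') : mapBc S' (.id P) x = x := by
  refine Subtype.ext ?_
  rw [mapBc_coe, Algebra.Extension.Cotangent.map_id, LinearMap.baseChange_id]
  rfl

theorem mapBc_comp (f : P.Hom P') (g : P'.Hom P'') (x : NLCx.bcH1 P S') :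
    mapBc S' (g.comp f) x = mapBc S' g (mapBc S' f x) := by
  refine Subtype.ext ?_
  rw [mapBc_coe, mapBc_coe, mapBc_coe, Algebra.Extension.Cotangent.map_comp]
  rw [← LinearMap.comp_apply, ← LinearMap.baseChange_comp]
  rfl

/-- presentation independence of `H^{-1}(NL ⊗ S')` -/
noncomputable def equivBc (f : P.Hom P') (g : P'.Hom P) : NLCx.bcH1 P S' ≃ₗ[S'] NLCx.bcH1 P' S' :=
  LinearEquiv.ofLinear (mapBc S' f) (mapBc S' g)
    (LinearMap.ext fun x => by
      rw [LinearMap.comp_apply, ← mapBc_comp, mapBc_eq S' (f.comp g) (.id P'), mapBc_id]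
      rfl)
    (LinearMap.ext fun x => by
      rw [LinearMap.comp_apply, ← mapBc_comp, mapBc_eq S' (g.comp f) (.id P), mapBc_id]
      rfl)

theorem equivBc_apply (f : P.Hom P') (g : P'.Hom P) (x : NLCx.bcH1 P S') :
    equivBc S' f g x = mapBc S' f x := rfl

end

section

variable {S'} {R' : Type u} [CommRing R'] [Algebra R' S'] [Algebra R R'] [Algebra R S']
  [IsScalarTower R R' S'] [IsScalarTower R S S']
  {P P₂ : Algebra.Extension.{u} R S} {P' P'₂ : Algebra.Extension.{u} R' S'}

theorem bcH1Map_comp_mapBc (f : P.Hom P₂) (g : P₂.Hom P') (x : NLCx.bcH1 P S') :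
    NLCx.bcH1Map g (mapBc S' f x) = NLCx.bcH1Map (g.comp f) x := by
  refine Subtype.ext ?_
  have h : LinearMap.liftBaseChange S' (Algebra.Extension.Cotangent.map g) ∘ₗ
      (Algebra.Extension.Cotangent.map f).baseChange S' =
      LinearMap.liftBaseChange S' (Algebra.Extension.Cotangent.map (g.comp f)) := by
    refine LinearMap.ext fun y => ?_
    induction y with
    | zero => simp only [map_zero]
    | add a b ha hb => simp only [map_add, ha, hb]
    | tmul a b =>
      rw [LinearMap.comp_apply, LinearMap.baseChange_tmul, LinearMap.liftBaseChange_tmul,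
        LinearMap.liftBaseChange_tmul, Algebra.Extension.Cotangent.map_comp]
      rfl
  exact LinearMap.congr_fun h x.1

/-- the kernel of `H^{-1}(NL(P) ⊗ S') → H^{-1}(NL(P'))` is independent of the presentations -/
theorem nonempty_ker_equiv (f : P.Hom P₂) (g : P₂.Hom P) (f' : P'.Hom P'₂) (g' : P'₂.Hom P')
    (a : P.Hom P') (b : P₂.Hom P'₂) :
    Nonempty (LinearMap.ker (NLCx.bcH1Map a) ≃ₗ[S'] LinearMap.ker (NLCx.bcH1Map b)) := by
  let e := equivBc S' f g
  let e' := Algebra.Extension.H1Cotangent.equiv f' g'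
  have h : ∀ x, NLCx.bcH1Map b (e x) = e' (NLCx.bcH1Map a x) := by
    intro x
    have h1 : e x = mapBc S' f x := rfl
    have h2 : e' (NLCx.bcH1Map a x) = Algebra.Extension.H1Cotangent.map f' (NLCx.bcH1Map a x) := rfl
    rw [h1, h2, bcH1Map_comp_mapBc, ← CotBC.bcH1Map_comp]
    exact LinearMap.congr_fun (CotBC.bcH1Map_eq _ _) x
  refine ⟨e.submoduleMap (LinearMap.ker (NLCx.bcH1Map a)) ≪≫ₗ LinearEquiv.ofEq _ _ ?_⟩
  ext y
  constructor
  · rintro ⟨x, hx, rfl⟩
    rw [LinearMap.mem_ker]
    change NLCx.bcH1Map b (e x) = 0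
    rw [h, show NLCx.bcH1Map a x = 0 from hx, map_zero]
  · intro hy
    refine ⟨e.symm y, ?_, e.apply_symm_apply y⟩
    change NLCx.bcH1Map a (e.symm y) = 0
    apply e'.injective
    rw [← h, e.apply_symm_apply, map_zero]
    exact hy

end

end K253.BcH1
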