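import Mathlib.AlgebraicGeometry.Modules.Sheaf
import Mathlib.Topology.Sheaves.SheafCondition.UniqueGluing

/-!
# Modules on a scheme from a system of charts

A chart system on a scheme `X` is a preordered set of charts `c` with opens `U c` such that charts below a
given chart form a basis of its open, together with modules `M c` over `Γ(X, U c)` and restriction maps
which satisfy separation and gluing for coverings by smaller charts.  It defines an `O_X`-module whose
sections over `U c` are `M c`.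
-/

set_option autoImplicit false
universe u

open CategoryTheory TopologicalSpace Opposite AlgebraicGeometry

noncomputable section

namespace K253.ChartSys

/-- Restriction of functions. -/
def res {X : Scheme.{u}} {V W : X.Opens} (h : W ≤ V) : Γ(X, V) →+* Γ(X, W) :=
  (X.presheaf.map (homOfLE h).op).hom

theorem res_res {X : Scheme.{u}} {U V W : X.Opens} (h : V ≤ U) (h' : W ≤ V) (r : Γ(X, U)) :
    res h' (res h r) = res (h'.trans h) r := by
  change (X.presheaf.map (homOfLE h').op) ((X.presheaf.map (homOfLE h).op) r) =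
    (X.presheaf.map (homOfLE (h'.trans h)).op) r
  rw [← CommRingCat.comp_apply, ← Functor.map_comp]
  rfl

theorem res_self {X : Scheme.{u}} {U : X.Opens} (h : U ≤ U) (r : Γ(X, U)) : res h r = r := by
  change (X.presheaf.map (homOfLE h).op) r = r
  have : (homOfLE h).op = 𝟙 (op U) := rfl
  rw [this, X.presheaf.map_id]; rfl

/-- Raw data for a sheaf of modules: modules of sections, restrictions, sheaf property. -/
structure Data (X : Scheme.{u}) where
  /-- sections -/
  S : X.Opens → Type u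
  [grp : ∀ V, AddCommGroup (S V)]
  [mod : ∀ V, Module Γ(X, V) (S V)]
  /-- restriction -/
  r : ∀ {V W : X.Opens}, W ≤ V → (S V →+ S W)
  r_self : ∀ {V : X.Opens} (h : V ≤ V) (s : S V), r h s = s
  r_r : ∀ {U V W : X.Opens} (h : V ≤ U) (h' : W ≤ V) (s : S U), r h' (r h s) = r (h'.trans h) s
  r_smul : ∀ {V W : X.Opens} (h : W ≤ V) (a : Γ(X, V)) (s : S V), r h (a • s) = res h a • r h s
  ext : ∀ {ι : Type u} (U : ι → X.Opens) (s t : S (⨆ i, U i)),
    (∀ i, r (le_iSup U i) s = r (le_iSup U i) t) → s = t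
  glue : ∀ {ι : Type u} (U : ι → X.Opens) (s : ∀ i, S (U i)),
    (∀ i j, r (inf_le_left : U i ⊓ U j ≤ U i) (s i) = r (inf_le_right : U i ⊓ U j ≤ U j) (s j)) →
    ∃ t : S (⨆ i, U i), ∀ i, r (le_iSup U i) t = s i

attribute [instance] Data.grp Data.mod

namespace Data

variable {X : Scheme.{u}} (D : Data X)

/-- The presheaf of abelian groups. -/
def presheafAb : TopCat.Presheaf Ab.{u} X where
  obj V := AddCommGrpCat.of (D.S V.unop)
  map f := AddCommGrpCat.ofHom (D.r f.unop.le)
  map_id V := by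
    ext s
    exact D.r_self _ s
  map_comp f g := by
    ext s
    exact (D.r_r _ _ s).symm

instance (V : (X.Opens)ᵒᵖ) : Module (X.ringCatSheaf.obj.obj V) (D.presheafAb.obj V) :=
  inferInstanceAs (Module Γ(X, V.unop) (D.S V.unop))

/-- The presheaf of modules. -/
def presheafMod : PresheafOfModules.{u} X.ringCatSheaf.obj :=
  PresheafOfModules.ofPresheaf D.presheafAb (fun _ _ f r φ => D.r_smul f.unop.le r φ)

theorem isSheaf : D.presheafAb.IsSheaf := by
  rw [TopCat.Presheaf.isSheaf_iff_isSheafUniqueGluing]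
  intro ι U sf hsf
  obtain ⟨t, ht⟩ := D.glue U sf (fun i j => hsf i j)
  exact ⟨t, fun i => ht i, fun t' ht' => D.ext U _ _ fun i => (ht' i).trans (ht i).symm⟩

/-- The sheaf of modules attached to the data. -/
def toModules : X.Modules where
  val := D.presheafMod
  isSheaf := D.isSheaf

/-- Sections of the module attached to the data. -/
def sec (V : X.Opens) : (D.toModules.val.obj (op V) : Type u) ≃+ D.S V := AddEquiv.refl (D.S V)

theorem sec_smul {V : X.Opens} (a : Γ(X, V)) (s : D.toModules.val.obj (op V)) :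
    D.sec V (a • s) = a • D.sec V s := rfl

theorem sec_map {V W : X.Opens} (h : W ≤ V) (s : D.toModules.val.obj (op V)) :
    D.sec W (D.toModules.val.map (homOfLE h).op s) = D.r h (D.sec V s) := rfl

end Data

/-- A system of charts with modules. -/
structure Sys (X : Scheme.{u}) where
  /-- the charts -/
  C : Type u
  [pre : Preorder C]
  /-- the open of a chart -/
  U : C → X.Opens
  U_mono : ∀ {c d : C}, d ≤ c → U d ≤ U c
  exists_le : ∀ (c : C) (W : X.Opens) (x : X), x ∈ U c → x ∈ W → ∃ d ≤ c, x ∈ U d ∧ U d ≤ W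
  exists_le_le : ∀ (c c' : C) (x : X), x ∈ U c → x ∈ U c' → ∃ d, d ≤ c ∧ d ≤ c' ∧ x ∈ U d
  /-- the modules -/
  M : C → Type u
  [grp : ∀ c, AddCommGroup (M c)]
  [mod : ∀ c, Module Γ(X, U c) (M c)]
  /-- restriction -/
  r : ∀ {c d : C}, d ≤ c → (M c →+ M d)
  r_self : ∀ {c : C} (h : c ≤ c) (m : M c), r h m = m
  r_r : ∀ {c d e : C} (h : d ≤ c) (h' : e ≤ d) (m : M c), r h' (r h m) = r (h'.trans h) m
  r_smul : ∀ {c d : C} (h : d ≤ c) (a : Γ(X, U c)) (m : M c), r h (a • m) = res (U_mono h) a • r h m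
  ext : ∀ (c : C) (m : M c), (∀ x ∈ U c, ∃ (d : C) (h : d ≤ c), x ∈ U d ∧ r h m = 0) → m = 0
  glue : ∀ (c : C) (S : Set C) (s : ∀ d : C, M d) (hS : ∀ d ∈ S, d ≤ c),
    (∀ d ∈ S, ∀ e ≤ d, e ∈ S) → (∀ x ∈ U c, ∃ d ∈ S, x ∈ U d) →
    (∀ d ∈ S, ∀ (e : C) (h : e ≤ d), r h (s d) = s e) → ∃ m : M c, ∀ (d : C) (hd : d ∈ S),
      r (hS d hd) m = s d

attribute [instance] Sys.grp Sys.mod Sys.pre

namespace Sys

variable {X : Scheme.{u}} (D : Sys X)

lemma ext' (c : D.C) (m m' : D.M c)
    (h : ∀ x ∈ D.U c, ∃ (d : D.C) (h : d ≤ c), x ∈ D.U d ∧ D.r h m = D.r h m') : m = m' := by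
  rw [← sub_eq_zero]
  refine D.ext c _ fun x hx => ?_
  obtain ⟨d, hd, hxd, e⟩ := h x hx
  exact ⟨d, hd, hxd, by rw [map_sub, e, sub_self]⟩

/-- Compatible families. -/
def famGroup (W : X.Opens) : AddSubgroup (∀ c : {c : D.C // D.U c ≤ W}, D.M c.1) where
  carrier := {s | ∀ (c d : {c : D.C // D.U c ≤ W}) (h : d.1 ≤ c.1), D.r h (s c) = s d}
  add_mem' := by
    intro s t hs ht c d h
    rw [Pi.add_apply, map_add, hs c d h, ht c d h]; rfl
  zero_mem' := by
    intro c d h
    rw [Pi.zero_apply, map_zero]; rfl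
  neg_mem' := by
    intro s hs c d h
    rw [Pi.neg_apply, map_neg, hs c d h]; rfl

/-- Compatible families. -/
def Fam (W : X.Opens) : Type u := D.famGroup W

instance (W : X.Opens) : AddCommGroup (D.Fam W) := inferInstanceAs (AddCommGroup (D.famGroup W))

/-- The value of a family on a chart. -/
def val {W : X.Opens} (s : D.Fam W) (c : D.C) (h : D.U c ≤ W) : D.M c := s.1 ⟨c, h⟩

@[simp] lemma val_add {W : X.Opens} (s t : D.Fam W) (c : D.C) (h : D.U c ≤ W) :
    D.val (s + t) c h = D.val s c h + D.val t c h := rfl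

@[simp] lemma val_zero {W : X.Opens} (c : D.C) (h : D.U c ≤ W) :
    D.val (0 : D.Fam W) c h = 0 := rfl

lemma r_val {W : X.Opens} (s : D.Fam W) {c d : D.C} (h : D.U c ≤ W) (hd : d ≤ c) :
    D.r hd (D.val s c h) = D.val s d ((D.U_mono hd).trans h) :=
  s.2 ⟨c, h⟩ ⟨d, (D.U_mono hd).trans h⟩ hd

lemma fam_ext {W : X.Opens} {s t : D.Fam W} (h : ∀ c hc, D.val s c hc = D.val t c hc) : s = t :=
  Subtype.ext (funext fun c => h c.1 c.2)

/-- Building a family. -/
def famMk {W : X.Opens} (s : ∀ c : D.C, D.U c ≤ W → D.M c)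
    (hs : ∀ (c d : D.C) (h : D.U c ≤ W) (hd : d ≤ c), D.r hd (s c h) = s d ((D.U_mono hd).trans h)) :
    D.Fam W :=
  ⟨fun c => s c.1 c.2, fun c d h => hs c.1 d.1 c.2 h⟩

@[simp] lemma val_famMk {W : X.Opens} (s : ∀ c : D.C, D.U c ≤ W → D.M c)
    (hs : ∀ (c d : D.C) (h : D.U c ≤ W) (hd : d ≤ c), D.r hd (s c h) = s d ((D.U_mono hd).trans h))
    (c : D.C) (h : D.U c ≤ W) : D.val (D.famMk s hs) c h = s c h := rfl

instance (W : X.Opens) : SMul Γ(X, W) (D.Fam W) where
  smul a s := D.famMk (fun c hc => res hc a • D.val s c hc) fun c d h hd => by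
    rw [D.r_smul, D.r_val, res_res]

@[simp] lemma val_smul {W : X.Opens} (a : Γ(X, W)) (s : D.Fam W) (c : D.C) (h : D.U c ≤ W) :
    D.val (a • s) c h = res h a • D.val s c h := rfl

instance (W : X.Opens) : Module Γ(X, W) (D.Fam W) where
  one_smul s := D.fam_ext fun c hc => by simp
  mul_smul a b s := D.fam_ext fun c hc => by simp [mul_smul]
  smul_zero a := D.fam_ext fun c hc => by simp
  smul_add a s t := D.fam_ext fun c hc => by simp
  add_smul a b s := D.fam_ext fun c hc => by simp [add_smul]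
  zero_smul s := D.fam_ext fun c hc => by simp

/-- Restriction of families. -/
def famRes {V W : X.Opens} (h : W ≤ V) : D.Fam V →+ D.Fam W where
  toFun s := D.famMk (fun c hc => D.val s c (hc.trans h)) fun _ _ _ _ => D.r_val _ _ _
  map_zero' := rfl
  map_add' _ _ := rfl

@[simp] lemma val_famRes {V W : X.Opens} (h : W ≤ V) (s : D.Fam V) (c : D.C) (hc : D.U c ≤ W) :
    D.val (D.famRes h s) c hc = D.val s c (hc.trans h) := rfl

/-- The sheaf of compatible families. -/
def toData : Data X where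
  S := D.Fam
  r h := D.famRes h
  r_self _ _ := rfl
  r_r _ _ _ := rfl
  r_smul h a s := D.fam_ext fun c hc => by simp [res_res]
  ext := by
    intro ι U s t h
    refine D.fam_ext fun c hc => D.ext' c _ _ fun x hx => ?_
    obtain ⟨i, hi⟩ := Opens.mem_iSup.1 (hc hx)
    obtain ⟨d, hd, hxd, hdi⟩ := D.exists_le c (U i) x hx hi
    refine ⟨d, hd, hxd, ?_⟩
    rw [D.r_val, D.r_val]
    exact congrArg (fun w => D.val w d hdi) (h i)
  glue := by
    intro ι U s h
    have key (c : D.C) (i j : ι) (hi : D.U c ≤ U i) (hj : D.U c ≤ U j) :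
        D.val (s i) c hi = D.val (s j) c hj :=
      congrArg (fun w => D.val w c (le_inf hi hj)) (h i j)
    classical
    let σ (c : D.C) : D.M c := if h : ∃ i, D.U c ≤ U i then D.val (s h.choose) c h.choose_spec else 0
    have hσ (c : D.C) (i : ι) (hi : D.U c ≤ U i) : σ c = D.val (s i) c hi := by
      have h : ∃ i, D.U c ≤ U i := ⟨i, hi⟩
      simp only [σ, dif_pos h]
      exact key _ _ _ _ _
    have main (c : D.C) (hc : D.U c ≤ ⨆ i, U i) : ∃ m : D.M c, ∀ (d : D.C) (hd : d ≤ c) (i : ι)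
        (hi : D.U d ≤ U i), D.r hd m = D.val (s i) d hi := by
      obtain ⟨m, hm⟩ := D.glue c {d | d ≤ c ∧ ∃ i, D.U d ≤ U i} σ (fun d hd => hd.1)
        (fun d hd e he => ⟨he.trans hd.1, hd.2.imp fun i hi => (D.U_mono he).trans hi⟩)
        (fun x hx => by
          obtain ⟨i, hi⟩ := Opens.mem_iSup.1 (hc hx)
          obtain ⟨d, hd, hxd, hdi⟩ := D.exists_le c (U i) x hx hi
          exact ⟨d, ⟨hd, i, hdi⟩, hxd⟩)
        (fun d ⟨hd, i, hi⟩ e he => by
          rw [hσ d i hi, hσ e i ((D.U_mono he).trans hi), D.r_val])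
      exact ⟨m, fun d hd i hi => (hm d ⟨hd, i, hi⟩).trans (hσ d i hi)⟩
    choose m hm using main
    refine ⟨D.famMk m fun c d hc hd => ?_, fun i => ?_⟩
    · refine D.ext' d _ _ fun x hx => ?_
      obtain ⟨i, hi⟩ := Opens.mem_iSup.1 (hc (D.U_mono hd hx))
      obtain ⟨e, he, hxe, hei⟩ := D.exists_le d (U i) x hx hi
      refine ⟨e, he, hxe, ?_⟩
      rw [D.r_r, hm c hc e _ i hei, hm d _ e _ i hei]
    · refine D.fam_ext fun c hc => ?_
      have := hm c (hc.trans (le_iSup U i)) c le_rfl i hc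
      rw [D.r_self] at this
      exact this

/-- The module attached to a chart system. -/
def toModules : X.Modules := D.toData.toModules

/-- Evaluation at a chart. -/
def ev (c : D.C) : D.Fam (D.U c) →+ D.M c where
  toFun s := D.val s c le_rfl
  map_zero' := rfl
  map_add' _ _ := rfl

lemma ev_injective (c : D.C) : Function.Injective (D.ev c) := by
  rw [injective_iff_map_eq_zero]
  intro s hs
  refine D.fam_ext fun c' hc' => ?_
  rw [val_zero]
  refine D.ext c' _ fun x hx => ?_
  obtain ⟨d, hd, hd', hxd⟩ := D.exists_le_le c c' x (hc' hx) hx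
  refine ⟨d, hd', hxd, ?_⟩
  rw [D.r_val, ← D.r_val s le_rfl hd]
  have hs' : D.val s c le_rfl = 0 := hs
  rw [hs', map_zero]

lemma ev_surjective (c : D.C) : Function.Surjective (D.ev c) := by
  intro m
  classical
  have main (c' : D.C) (hc : D.U c' ≤ D.U c) : ∃ m' : D.M c', ∀ (d : D.C) (hd : d ≤ c')
      (hd' : d ≤ c), D.r hd m' = D.r hd' m := by
    obtain ⟨m', hm⟩ := D.glue c' {d | d ≤ c' ∧ d ≤ c}
      (fun d => if h : d ≤ c then D.r h m else 0) (fun d hd => hd.1)
      (fun d hd e he => ⟨he.trans hd.1, he.trans hd.2⟩)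
      (fun x hx => by
        obtain ⟨d, hd, hd', hxd⟩ := D.exists_le_le c c' x (hc hx) hx
        exact ⟨d, ⟨hd', hd⟩, hxd⟩)
      (fun d ⟨_, hd⟩ e he => by rw [dif_pos hd, dif_pos (he.trans hd), D.r_r])
    exact ⟨m', fun d hd hd' => (hm d ⟨hd, hd'⟩).trans (dif_pos hd')⟩
  choose σ hσ using main
  refine ⟨D.famMk σ fun c' d hc' hd => ?_, ?_⟩
  · refine D.ext' d _ _ fun x hx => ?_
    obtain ⟨e, he, he', hxe⟩ := D.exists_le_le c d x (hc' (D.U_mono hd hx)) hx
    refine ⟨e, he', hxe, ?_⟩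
    rw [D.r_r, hσ c' hc' e _ he, hσ d _ e _ he]
  · have := hσ c le_rfl c le_rfl le_rfl
    rw [D.r_self, D.r_self] at this
    exact this

/-- Sections over the open of a chart. -/
def evEquiv (c : D.C) : (D.toModules.val.obj (op (D.U c)) : Type u) ≃+ D.M c :=
  (D.toData.sec (D.U c)).trans (AddEquiv.ofBijective (D.ev c) ⟨D.ev_injective c, D.ev_surjective c⟩)

lemma evEquiv_smul (c : D.C) (a : Γ(X, D.U c)) (s : D.toModules.val.obj (op (D.U c))) :
    D.evEquiv c (a • s) = a • D.evEquiv c s := by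
  have h : D.evEquiv c (a • s) = res le_rfl a • D.evEquiv c s := rfl
  rw [h, res_self]

lemma evEquiv_map {c d : D.C} (h : d ≤ c) (s : D.toModules.val.obj (op (D.U c))) :
    D.evEquiv d (D.toModules.val.map (homOfLE (D.U_mono h)).op s) = D.r h (D.evEquiv c s) :=
  (D.r_val (W := D.U c) s le_rfl h).symm

end Sys

end K253.ChartSys
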