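import Groth.Agent.FlatMor.K253.ChartSys
import Mathlib.AlgebraicGeometry.AffineScheme

/-!
# Chart systems from affine chart pairs of a morphism

For a morphism `f : X ⟶ Y`, modules `M U V` over `Γ(X, U)` for the affine pairs `U ⊆ f⁻¹ V`, which
localize correctly in `U` and do not change when `V` shrinks, form a chart system.
-/

set_option autoImplicit false
universe u

open CategoryTheory TopologicalSpace Opposite AlgebraicGeometry

noncomputable section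

namespace K253.PairSys

open K253.ChartSys

/-- Gluing elements of a module from localizations. -/
theorem exists_glue {A M : Type*} [CommRing A] [AddCommGroup M] [Module A M] {ι : Type*} [Finite ι]
    (g : ι → A) (hg : Ideal.span (Set.range g) = ⊤) {B : ι → Type*} [∀ i, CommRing (B i)]
    (φ : ∀ i, A →+* B i) {N : ι → Type*} [∀ i, AddCommGroup (N i)] [∀ i, Module (B i) (N i)]
    (ρ : ∀ i, M →+ N i) (hρ : ∀ i a m, ρ i (a • m) = φ i a • ρ i m)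
    (hu : ∀ i, IsUnit (φ i (g i))) (t : ∀ i, N i)
    (hs : ∀ i, ∃ (n : ℕ) (m : M), ρ i m = φ i (g i) ^ n • t i)
    (hc : ∀ (i j : ι) (n : ℕ) (m m' : M), ρ i m = φ i (g i) ^ n • t i →
      ρ j m' = φ j (g j) ^ n • t j → ∃ k : ℕ, (g i * g j) ^ k • (g j ^ n • m - g i ^ n • m') = 0) :
    ∃ m : M, ∀ i, ρ i m = t i := by
  have _ := Fintype.ofFinite ι
  choose n₀ m₀ h₀ using hs
  obtain ⟨n, hn⟩ : ∃ n, ∀ i, n₀ i ≤ n := (Set.finite_range n₀).bddAbove.imp fun n hn i => hn ⟨i, rfl⟩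
  let m (i : ι) : M := g i ^ (n - n₀ i) • m₀ i
  have hm (i : ι) : ρ i (m i) = φ i (g i) ^ n • t i := by
    simp only [m]
    rw [hρ, h₀, smul_smul, map_pow, ← pow_add, Nat.sub_add_cancel (hn i)]
  choose k₀ hk₀ using fun i j => hc i j n (m i) (m j) (hm i) (hm j)
  obtain ⟨k, hk⟩ : ∃ k, ∀ i j, k₀ i j ≤ k := by
    obtain ⟨k, hk⟩ := (Set.finite_range fun p : ι × ι => k₀ p.1 p.2).bddAbove
    exact ⟨k, fun i j => hk ⟨(i, j), rfl⟩⟩
  have hk' (i j : ι) : (g i * g j) ^ k • (g j ^ n • m i - g i ^ n • m j) = 0 := by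
    rw [← Nat.sub_add_cancel (hk i j), pow_add, mul_smul, hk₀, smul_zero]
  let m' (i : ι) : M := g i ^ k • m i
  have hm' (i : ι) : ρ i (m' i) = φ i (g i) ^ (n + k) • t i := by
    simp only [m']
    rw [hρ, hm, smul_smul, map_pow, ← pow_add, add_comm]
  have hmm (i j : ι) : g j ^ (n + k) • m' i = g i ^ (n + k) • m' j := by
    have h0 := hk' i j
    rw [smul_sub, sub_eq_zero] at h0
    have e1 : g j ^ (n + k) * g i ^ k = (g i * g j) ^ k * g j ^ n := by ring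
    have e2 : g i ^ (n + k) * g j ^ k = (g i * g j) ^ k * g i ^ n := by ring
    calc g j ^ (n + k) • m' i = ((g i * g j) ^ k * g j ^ n) • m i := by
          rw [← e1, mul_smul]
      _ = ((g i * g j) ^ k * g i ^ n) • m j := by rw [mul_smul, mul_smul]; exact h0
      _ = g i ^ (n + k) • m' j := by rw [← e2, mul_smul]
  have hg' : Ideal.span (Set.range fun i => g i ^ (n + k)) = ⊤ := by
    have := Ideal.span_pow_eq_top (Set.range g) hg (n + k)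
    rw [← Set.range_comp] at this
    exact this
  have h1 : (1 : A) ∈ Ideal.span (Set.range fun i => g i ^ (n + k)) := by rw [hg']; trivial
  obtain ⟨a, ha⟩ := (Ideal.mem_span_range_iff_exists_fun).1 h1
  refine ⟨∑ j, a j • m' j, fun i => ?_⟩
  have h2 : g i ^ (n + k) • (∑ j, a j • m' j) = m' i := by
    rw [Finset.smul_sum]
    have : ∀ j, g i ^ (n + k) • a j • m' j = (a j * g j ^ (n + k)) • m' i := fun j => by
      rw [smul_comm, ← hmm i j, mul_smul]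
    rw [Finset.sum_congr rfl fun j _ => this j, ← Finset.sum_smul, ha, one_smul]
  have h3 : φ i (g i) ^ (n + k) • ρ i (∑ j, a j • m' j) = φ i (g i) ^ (n + k) • t i := by
    rw [← map_pow, ← hρ, h2, hm', map_pow]
  exact ((hu i).pow (n + k)).smul_left_cancel.1 h3

variable {X Y : Scheme.{u}} (f : X ⟶ Y)

/-- Modules on the affine chart pairs of a morphism. -/
structure PSys where
  /-- the modules -/
  M : ∀ (U : X.affineOpens) (V : Y.affineOpens), (U : X.Opens) ≤ f ⁻¹ᵁ (V : Y.Opens) → Type u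
  [grp : ∀ (U : X.affineOpens) (V : Y.affineOpens) (e : (U : X.Opens) ≤ f ⁻¹ᵁ (V : Y.Opens)),
    AddCommGroup (M U V e)]
  [mod : ∀ (U : X.affineOpens) (V : Y.affineOpens) (e : (U : X.Opens) ≤ f ⁻¹ᵁ (V : Y.Opens)),
    Module Γ(X, (U : X.Opens)) (M U V e)]
  /-- restriction -/
  r : ∀ {U U' : X.affineOpens} {V V' : Y.affineOpens} (e : (U : X.Opens) ≤ f ⁻¹ᵁ (V : Y.Opens))
    (e' : (U' : X.Opens) ≤ f ⁻¹ᵁ (V' : Y.Opens)), (U' : X.Opens) ≤ (U : X.Opens) →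
    (V' : Y.Opens) ≤ (V : Y.Opens) → (M U V e →+ M U' V' e')
  r_self : ∀ {U : X.affineOpens} {V : Y.affineOpens} (e : (U : X.Opens) ≤ f ⁻¹ᵁ (V : Y.Opens))
    (m : M U V e), r e e le_rfl le_rfl m = m
  r_r : ∀ {U U' U'' : X.affineOpens} {V V' V'' : Y.affineOpens}
    (e : (U : X.Opens) ≤ f ⁻¹ᵁ (V : Y.Opens)) (e' : (U' : X.Opens) ≤ f ⁻¹ᵁ (V' : Y.Opens))
    (e'' : (U'' : X.Opens) ≤ f ⁻¹ᵁ (V'' : Y.Opens)) (hU : (U' : X.Opens) ≤ (U : X.Opens))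
    (hV : (V' : Y.Opens) ≤ (V : Y.Opens)) (hU' : (U'' : X.Opens) ≤ (U' : X.Opens))
    (hV' : (V'' : Y.Opens) ≤ (V' : Y.Opens)) (m : M U V e),
    r e' e'' hU' hV' (r e e' hU hV m) = r e e'' (hU'.trans hU) (hV'.trans hV) m
  r_smul : ∀ {U U' : X.affineOpens} {V V' : Y.affineOpens}
    (e : (U : X.Opens) ≤ f ⁻¹ᵁ (V : Y.Opens)) (e' : (U' : X.Opens) ≤ f ⁻¹ᵁ (V' : Y.Opens))
    (hU : (U' : X.Opens) ≤ (U : X.Opens)) (hV : (V' : Y.Opens) ≤ (V : Y.Opens))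
    (a : Γ(X, (U : X.Opens))) (m : M U V e), r e e' hU hV (a • m) = res hU a • r e e' hU hV m
  inj : ∀ {U : X.affineOpens} {V V' : Y.affineOpens}
    (e : (U : X.Opens) ≤ f ⁻¹ᵁ (V : Y.Opens)) (e' : (U : X.Opens) ≤ f ⁻¹ᵁ (V' : Y.Opens))
    (hV : (V' : Y.Opens) ≤ (V : Y.Opens)), Function.Injective (r e e' le_rfl hV)
  surj : ∀ {U : X.affineOpens} {V V' : Y.affineOpens}
    (e : (U : X.Opens) ≤ f ⁻¹ᵁ (V : Y.Opens)) (e' : (U : X.Opens) ≤ f ⁻¹ᵁ (V' : Y.Opens))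
    (hV : (V' : Y.Opens) ≤ (V : Y.Opens)), Function.Surjective (r e e' le_rfl hV)
  loc_inj : ∀ {U : X.affineOpens} {V : Y.affineOpens} (e : (U : X.Opens) ≤ f ⁻¹ᵁ (V : Y.Opens))
    (g : Γ(X, (U : X.Opens))) (m : M U V e),
    r e (U' := X.affineBasicOpen g) ((X.basicOpen_le g).trans e) (X.basicOpen_le g) le_rfl m = 0 →
    ∃ n : ℕ, g ^ n • m = 0
  loc_surj : ∀ {U : X.affineOpens} {V : Y.affineOpens} (e : (U : X.Opens) ≤ f ⁻¹ᵁ (V : Y.Opens))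
    (g : Γ(X, (U : X.Opens))) (t : M (X.affineBasicOpen g) V ((X.basicOpen_le g).trans e)),
    ∃ (n : ℕ) (m : M U V e),
      r e (U' := X.affineBasicOpen g) ((X.basicOpen_le g).trans e) (X.basicOpen_le g) le_rfl m =
        res (W := (X.affineBasicOpen g : X.Opens)) (X.basicOpen_le g) g ^ n • t

attribute [instance] PSys.grp PSys.mod

/-- Affine chart pairs. -/
def Ch : Type u := {p : X.affineOpens × Y.affineOpens // (p.1 : X.Opens) ≤ f ⁻¹ᵁ (p.2 : Y.Opens)}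

instance : Preorder (Ch f) := inferInstanceAs (Preorder
  {p : X.affineOpens × Y.affineOpens // (p.1 : X.Opens) ≤ f ⁻¹ᵁ (p.2 : Y.Opens)})

variable {f}

lemma Ch.le_iff {c d : Ch f} : c ≤ d ↔ (c.1.1 : X.Opens) ≤ d.1.1 ∧ (c.1.2 : Y.Opens) ≤ d.1.2 :=
  Iff.rfl

/-- A basic open of a chart. -/
def Ch.basic (c : Ch f) (g : Γ(X, (c.1.1 : X.Opens))) : Ch f :=
  ⟨(X.affineBasicOpen g, c.1.2), (X.basicOpen_le g).trans c.2⟩

lemma Ch.basic_le (c : Ch f) (g : Γ(X, (c.1.1 : X.Opens))) : c.basic g ≤ c :=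
  ⟨X.basicOpen_le g, le_rfl⟩

/-- Shrinking the target of a chart. -/
lemma exists_basic_le (c : Ch f) (W : X.Opens) (x : X) (hx : x ∈ (c.1.1 : X.Opens)) (hW : x ∈ W) :
    ∃ g : Γ(X, (c.1.1 : X.Opens)), x ∈ X.basicOpen g ∧ X.basicOpen g ≤ W :=
  let ⟨g, hg, hx⟩ := c.1.1.2.exists_basicOpen_le (V := W) ⟨x, hW⟩ hx
  ⟨g, hx, hg⟩

lemma exists_le_le (c c' : Ch f) (x : X) (hx : x ∈ (c.1.1 : X.Opens)) (hx' : x ∈ (c'.1.1 : X.Opens)) :
    ∃ d, d ≤ c ∧ d ≤ c' ∧ x ∈ (d.1.1 : X.Opens) := by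
  obtain ⟨_, ⟨V, hV, rfl⟩, hxV, hV'⟩ := Y.isBasis_affineOpens.exists_subset_of_mem_open
    (a := f x) (u := ((c.1.2 : Y.Opens) ⊓ c'.1.2 : Y.Opens)) ⟨c.2 hx, c'.2 hx'⟩ (Opens.isOpen _)
  obtain ⟨_, ⟨U, hU, rfl⟩, hxU, hU'⟩ := X.isBasis_affineOpens.exists_subset_of_mem_open
    (a := x) (u := ((c.1.1 : X.Opens) ⊓ c'.1.1 ⊓ f ⁻¹ᵁ V : X.Opens)) ⟨⟨hx, hx'⟩, hxV⟩
    (Opens.isOpen _)
  exact ⟨⟨(⟨U, hU⟩, ⟨V, hV⟩), fun y hy => (hU' hy).2⟩,
    ⟨fun y hy => (hU' hy).1.1, fun y hy => (hV' hy).1⟩,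
    ⟨fun y hy => (hU' hy).1.2, fun y hy => (hV' hy).2⟩, hxU⟩

namespace PSys

variable (D : PSys f)

/-- Restriction along an inequality of charts. -/
def rr {c d : Ch f} (h : d ≤ c) : D.M c.1.1 c.1.2 c.2 →+ D.M d.1.1 d.1.2 d.2 := D.r c.2 d.2 h.1 h.2

lemma rr_self {c : Ch f} (h : c ≤ c) (m : D.M c.1.1 c.1.2 c.2) : D.rr h m = m := D.r_self _ _

lemma rr_rr {c d e : Ch f} (h : d ≤ c) (h' : e ≤ d) (m : D.M c.1.1 c.1.2 c.2) :
    D.rr h' (D.rr h m) = D.rr (h'.trans h) m := D.r_r _ _ _ _ _ _ _ _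

lemma rr_smul {c d : Ch f} (h : d ≤ c) (a : Γ(X, (c.1.1 : X.Opens))) (m : D.M c.1.1 c.1.2 c.2) :
    D.rr h (a • m) = res h.1 a • D.rr h m := D.r_smul _ _ _ _ _ _

lemma rr_inj {c d : Ch f} (h : d ≤ c) (hU : d.1.1 = c.1.1) : Function.Injective (D.rr h) := by
  obtain ⟨⟨U, V⟩, e⟩ := c
  obtain ⟨⟨U', V'⟩, e'⟩ := d
  obtain rfl : U' = U := hU
  exact D.inj e e' h.2

lemma rr_surj {c d : Ch f} (h : d ≤ c) (hU : d.1.1 = c.1.1) : Function.Surjective (D.rr h) := by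
  obtain ⟨⟨U, V⟩, e⟩ := c
  obtain ⟨⟨U', V'⟩, e'⟩ := d
  obtain rfl : U' = U := hU
  exact D.surj e e' h.2

lemma eq_zero (c : Ch f) (m : D.M c.1.1 c.1.2 c.2)
    (h : ∀ x ∈ (c.1.1 : X.Opens), ∃ (d : Ch f) (h : d ≤ c), x ∈ (d.1.1 : X.Opens) ∧ D.rr h m = 0) :
    m = 0 := by
  let s : Set Γ(X, (c.1.1 : X.Opens)) := {g | ∃ n : ℕ, g ^ n • m = 0}
  have hs : Ideal.span s = ⊤ := by
    rw [← c.1.1.2.self_le_iSup_basicOpen_iff]
    intro x hx
    obtain ⟨d, hd, hxd, e⟩ := h x hx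
    obtain ⟨g, hxg, hg⟩ := exists_basic_le c d.1.1 x hx hxd
    rw [Opens.mem_iSup]
    refine ⟨⟨g, ?_⟩, hxg⟩
    -- the chart `(D(g), V_d)`
    let d' : Ch f := ⟨(X.affineBasicOpen g, d.1.2), le_trans hg d.2⟩
    have h1 : d' ≤ d := ⟨hg, le_rfl⟩
    have h2 : d' ≤ c.basic g := ⟨le_rfl, hd.2⟩
    have e1 : D.rr (c.basic_le g) m = 0 := by
      apply D.rr_inj h2 rfl
      rw [D.rr_rr, map_zero, ← D.rr_rr hd h1, e, map_zero]
    exact D.loc_inj c.2 g m e1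
  obtain ⟨s', hs', hspan⟩ := (Ideal.span_eq_top_iff_finite s).1 hs
  -- annihilator argument
  have key : ∀ g : s', ∃ n : ℕ, (g : Γ(X, (c.1.1 : X.Opens))) ^ n • m = 0 := fun g => hs' g.2
  choose n hn using key
  obtain ⟨N, hN⟩ : ∃ N, ∀ g, n g ≤ N := (Set.finite_range n).bddAbove.imp fun N hN g => hN ⟨g, rfl⟩
  have h1 := Ideal.span_pow_eq_top _ hspan N
  have h2 : Ideal.span ((fun x => x ^ N) '' (s' : Set Γ(X, (c.1.1 : X.Opens)))) ≤
      LinearMap.ker (LinearMap.toSpanSingleton Γ(X, (c.1.1 : X.Opens)) _ m) := by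
    rw [Ideal.span_le]
    rintro _ ⟨g, hg, rfl⟩
    change g ^ N • m = 0
    rw [← Nat.sub_add_cancel (hN ⟨g, hg⟩), pow_add, mul_smul, hn ⟨g, hg⟩, smul_zero]
  have h3 : (1 : Γ(X, (c.1.1 : X.Opens))) ∈
      LinearMap.ker (LinearMap.toSpanSingleton Γ(X, (c.1.1 : X.Opens)) _ m) :=
    h2 (by rw [h1]; trivial)
  have h4 : (1 : Γ(X, (c.1.1 : X.Opens))) • m = 0 := h3
  rwa [one_smul] at h4

lemma eq_of (c : Ch f) (m m' : D.M c.1.1 c.1.2 c.2)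
    (h : ∀ x ∈ (c.1.1 : X.Opens), ∃ (d : Ch f) (h : d ≤ c), x ∈ (d.1.1 : X.Opens) ∧
      D.rr h m = D.rr h m') : m = m' := by
  rw [← sub_eq_zero]
  refine D.eq_zero c _ fun x hx => ?_
  obtain ⟨d, hd, hxd, e⟩ := h x hx
  exact ⟨d, hd, hxd, by rw [map_sub, e, sub_self]⟩

theorem glue (c : Ch f) (S : Set (Ch f)) (s : ∀ d : Ch f, D.M d.1.1 d.1.2 d.2)
    (hS : ∀ d ∈ S, d ≤ c) (hS' : ∀ d ∈ S, ∀ e ≤ d, e ∈ S)
    (hcov : ∀ x ∈ (c.1.1 : X.Opens), ∃ d ∈ S, x ∈ (d.1.1 : X.Opens))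
    (hs : ∀ d ∈ S, ∀ (e : Ch f) (h : e ≤ d), D.rr h (s d) = s e) :
    ∃ m : D.M c.1.1 c.1.2 c.2, ∀ (d : Ch f) (hd : d ∈ S), D.rr (hS d hd) m = s d := by
  let G : Set Γ(X, (c.1.1 : X.Opens)) :=
    {g | ∃ d ∈ S, d.1.1 = X.affineBasicOpen g}
  have hG : Ideal.span G = ⊤ := by
    rw [← c.1.1.2.self_le_iSup_basicOpen_iff]
    intro x hx
    obtain ⟨d, hd, hxd⟩ := hcov x hx
    obtain ⟨g, hxg, hg⟩ := exists_basic_le c d.1.1 x hx hxd
    rw [Opens.mem_iSup]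
    exact ⟨⟨g, ⟨(X.affineBasicOpen g, d.1.2), le_trans hg d.2⟩, hS' d hd _ ⟨hg, le_rfl⟩, rfl⟩, hxg⟩
  obtain ⟨G', hG', hspan⟩ := (Ideal.span_eq_top_iff_finite G).1 hG
  have key (g : G') : ∃ (t : D.M (c.basic g.1).1.1 (c.basic g.1).1.2 (c.basic g.1).2) (d : Ch f)
      (_ : d ∈ S) (h : d ≤ c.basic g.1), d.1.1 = X.affineBasicOpen g.1 ∧ D.rr h t = s d := by
    obtain ⟨d, hd, e⟩ := hG' g.2
    have h : d ≤ c.basic g.1 := ⟨by rw [e]; exact le_rfl, (hS d hd).2⟩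
    obtain ⟨t, ht⟩ := D.rr_surj h e (s d)
    exact ⟨t, d, hd, h, e, ht⟩
  choose t d hd h hU ht using key
  have comp (g g' : G') : D.rr (c := c.basic g.1) (d := c.basic (g.1 * g'.1))
      ⟨(X.basicOpen_mul g.1 g'.1).le.trans inf_le_left, le_rfl⟩ (t g) =
      D.rr (c := c.basic g'.1) (d := c.basic (g.1 * g'.1))
      ⟨(X.basicOpen_mul g.1 g'.1).le.trans inf_le_right, le_rfl⟩ (t g') := by
    refine D.eq_of _ _ _ fun x hx => ?_
    have hx1 : x ∈ (X.basicOpen g.1 ⊓ X.basicOpen g'.1 : X.Opens) := by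
      rw [← X.basicOpen_mul]; exact hx
    obtain ⟨e₁, he₁, he₁', hx₁⟩ := exists_le_le (d g) (d g') x
      (by rw [hU]; exact hx1.1) (by rw [hU]; exact hx1.2)
    obtain ⟨e, he, he', hxe⟩ := exists_le_le e₁ (c.basic (g.1 * g'.1)) x hx₁ hx
    refine ⟨e, he', hxe, ?_⟩
    rw [D.rr_rr, D.rr_rr, ← D.rr_rr (h g) (he.trans he₁), ← D.rr_rr (h g') (he.trans he₁'), ht, ht,
      hs _ (hd g), hs _ (hd g')]
  obtain ⟨m, hm⟩ : ∃ m : D.M c.1.1 c.1.2 c.2, ∀ g : G', D.rr (c.basic_le g.1) m = t g := by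
    refine exists_glue (ι := G') (fun g => g.1)
      (by rw [show Set.range (fun g : G' => g.1) = G' from Subtype.range_coe]; exact hspan)
      (B := fun g => Γ(X, ((c.basic g.1).1.1 : X.Opens)))
      (fun g => res (c.basic_le g.1).1) (fun g => D.rr (c.basic_le g.1))
      (fun g a m => D.rr_smul _ _ _) (fun g => ?_) t (fun g => D.loc_surj c.2 g.1 (t g)) ?_
    · exact RingedSpace.isUnit_res_basicOpen _ g.1
    · intro g g' n m m' hm hm'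
      refine D.loc_inj c.2 (g.1 * g'.1) _ ?_
      have e1 := congrArg (D.rr (c := c.basic g.1) (d := c.basic (g.1 * g'.1))
        ⟨(X.basicOpen_mul g.1 g'.1).le.trans inf_le_left, le_rfl⟩) hm
      have e2 := congrArg (D.rr (c := c.basic g'.1) (d := c.basic (g.1 * g'.1))
        ⟨(X.basicOpen_mul g.1 g'.1).le.trans inf_le_right, le_rfl⟩) hm'
      rw [D.rr_smul, D.rr_rr] at e1 e2
      change D.rr (c.basic_le (g.1 * g'.1)) _ = 0
      rw [map_sub, D.rr_smul, D.rr_smul, e1, e2, comp, smul_smul, smul_smul, sub_eq_zero,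
        map_pow, map_pow, map_pow, map_pow, res_res, res_res]
      congr 1
      exact mul_comm _ _
  refine ⟨m, fun d' hd' => ?_⟩
  refine D.eq_of _ _ _ fun x hx => ?_
  have hx' : x ∈ (c.1.1 : X.Opens) := (hS d' hd').1 hx
  have hcov' := (c.1.1.2.self_le_iSup_basicOpen_iff (s := (G' : Set Γ(X, (c.1.1 : X.Opens))))).2
    hspan hx'
  obtain ⟨g, hg⟩ := Opens.mem_iSup.1 hcov'
  obtain ⟨e, he, he', hxe⟩ := exists_le_le (d g) d' x (by rw [hU]; exact hg) hx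
  refine ⟨e, he', hxe, ?_⟩
  rw [D.rr_rr, hs d' hd', ← D.rr_rr (c.basic_le g.1) (he.trans (h g)), hm,
    ← D.rr_rr (h g) he, ht, hs _ (hd g)]

/-- The chart system attached to modules on affine chart pairs. -/
def toSys : Sys X where
  C := Ch f
  pre := inferInstanceAs (Preorder (Ch f))
  U c := c.1.1
  U_mono h := (Ch.le_iff.1 h).1
  exists_le c W x hx hW := by
    obtain ⟨g, hg, hg'⟩ := exists_basic_le c W x hx hW
    exact ⟨c.basic g, c.basic_le g, hg, hg'⟩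
  exists_le_le := exists_le_le
  M c := D.M c.1.1 c.1.2 c.2
  r h := D.rr h
  r_self := D.rr_self
  r_r := D.rr_rr
  r_smul := D.rr_smul
  ext := D.eq_zero
  glue := D.glue

end PSys

end K253.PairSys
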