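import Groth.Agent.FlatMor.K253.H1Epi
import Groth.Agent.FlatMor.K253.PairSys
import Groth.Prelude.Def_SheafNL
import Mathlib.AlgebraicGeometry.Morphisms.Flat

/-!
# The first homology of the naive cotangent complex on affine chart pairs
-/

set_option autoImplicit false
universe u

open CategoryTheory TopologicalSpace Opposite AlgebraicGeometry

noncomputable section

namespace K253.H1Chart

open K253.H1Map K253.PairSys K253.ChartSys

variable {X Y : Scheme.{u}} {f : X ⟶ Y}

lemma comp_eq {U U' : X.affineOpens} {V V' : Y.affineOpens} (e : (U : X.Opens) ≤ f ⁻¹ᵁ (V : Y.Opens))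
    (e' : (U' : X.Opens) ≤ f ⁻¹ᵁ (V' : Y.Opens)) (hU : (U' : X.Opens) ≤ (U : X.Opens))
    (hV : (V' : Y.Opens) ≤ (V : Y.Opens)) :
    (X.presheaf.map (homOfLE hU).op).hom.comp (f.appLE (V : Y.Opens) (U : X.Opens) e).hom =
      (f.appLE (V' : Y.Opens) (U' : X.Opens) e').hom.comp (Y.presheaf.map (homOfLE hV).op).hom := by
  rw [← CommRingCat.hom_comp, ← CommRingCat.hom_comp, Scheme.Hom.appLE_map, Scheme.Hom.map_appLE]

lemma map_eq_h1map {A A' B B' : Type u} [CommRing A] [CommRing A'] [CommRing B] [CommRing B']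
    (φ : A →+* B) (φ' : A' →+* B') (a : A →+* A') (b : B →+* B') (c : A →+* B')
    (h : b.comp φ = φ'.comp a) (hc : c = b.comp φ)
    (t1 : letI := φ'.toAlgebra; letI := a.toAlgebra; letI := c.toAlgebra; IsScalarTower A A' B')
    (t2 : letI := φ.toAlgebra; letI := b.toAlgebra; letI := c.toAlgebra; IsScalarTower A B B') :
    (letI := φ.toAlgebra; letI := φ'.toAlgebra; letI := c.toAlgebra; letI := a.toAlgebra
     letI := b.toAlgebra; (Algebra.H1Cotangent.map A A' B B').toAddMonoidHom) =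
      h1map φ φ' a b h := by
  subst hc
  rfl

lemma chartRes_eq {U U' : X.affineOpens} {V V' : Y.affineOpens}
    (e : (U : X.Opens) ≤ f ⁻¹ᵁ (V : Y.Opens))
    (e' : (U' : X.Opens) ≤ f ⁻¹ᵁ (V' : Y.Opens)) (hU : (U' : X.Opens) ≤ (U : X.Opens))
    (hV : (V' : Y.Opens) ≤ (V : Y.Opens)) :
    NLCx.chartRes e e' hU hV = h1map (f.appLE (V : Y.Opens) (U : X.Opens) e).hom
      (f.appLE (V' : Y.Opens) (U' : X.Opens) e').hom (Y.presheaf.map (homOfLE hV).op).hom
      (X.presheaf.map (homOfLE hU).op).hom (comp_eq e e' hU hV) := by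
  refine map_eq_h1map _ _ _ _ (f.appLE (V : Y.Opens) (U' : X.Opens) (hU.trans e)).hom _ ?_ _ _
  rw [← CommRingCat.hom_comp, Scheme.Hom.appLE_map]

lemma map_self (Z : Scheme.{u}) (U : Z.Opens) (h : U ≤ U) :
    (Z.presheaf.map (homOfLE h).op).hom = RingHom.id _ := by
  have : (homOfLE h).op = 𝟙 (op U) := rfl
  rw [this, Z.presheaf.map_id]; rfl

lemma epi_res (Z : Scheme.{u}) {U V : Z.Opens} (hU : IsAffineOpen U) (hV : IsAffineOpen V)
    (h : V ≤ U) : Epi (Z.presheaf.map (homOfLE h).op) := by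
  have h1 := IsAffineOpen.map_fromSpec hU hV (homOfLE h).op
  have h2 : Mono (Spec.map (Z.presheaf.map (homOfLE h).op) ≫ hU.fromSpec) := by
    rw [h1]; infer_instance
  have h3 : Mono (Spec.map (Z.presheaf.map (homOfLE h).op)) := mono_of_mono _ hU.fromSpec
  have h4 : Mono (Scheme.Spec.map (Z.presheaf.map (homOfLE h).op).op) := h3
  have h5 : Mono (Z.presheaf.map (homOfLE h).op).op := Scheme.Spec.mono_of_mono_map h4
  exact unop_epi_of_mono (Z.presheaf.map (homOfLE h).op).op

lemma flat_res (Z : Scheme.{u}) {U V : Z.Opens} (hU : IsAffineOpen U) (hV : IsAffineOpen V)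
    (h : V ≤ U) : (Z.presheaf.map (homOfLE h).op).hom.Flat := by
  have e : (𝟙 Z : Z ⟶ Z).appLE U V h = Z.presheaf.map (homOfLE h).op := by
    simp only [Scheme.Hom.appLE, Scheme.Hom.id_app]
    exact Category.id_comp _
  rw [← e]
  exact (𝟙 Z : Z ⟶ Z).flat_appLE hU hV h

lemma chartRes_bijective {U : X.affineOpens} {V V' : Y.affineOpens}
    (e : (U : X.Opens) ≤ f ⁻¹ᵁ (V : Y.Opens))
    (e' : (U : X.Opens) ≤ f ⁻¹ᵁ (V' : Y.Opens)) (hU : (U : X.Opens) ≤ (U : X.Opens))
    (hV : (V' : Y.Opens) ≤ (V : Y.Opens)) : Function.Bijective (NLCx.chartRes e e' hU hV) := by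
  rw [chartRes_eq]
  refine H1Epi.bijective _ _ _ _ _ ?_ (flat_res Y V.2 V'.2 hV) (epi_res Y V.2 V'.2 hV)
  rw [map_self]
  exact Function.bijective_id

lemma chartRes_basic {U : X.affineOpens} {V : Y.affineOpens}
    (e : (U : X.Opens) ≤ f ⁻¹ᵁ (V : Y.Opens)) (g : Γ(X, (U : X.Opens))) :
    ∃ h, NLCx.chartRes (U' := X.affineBasicOpen g) e ((X.basicOpen_le g).trans e)
      (X.basicOpen_le g) le_rfl =
      h1map (f.appLE (V : Y.Opens) (U : X.Opens) e).hom
        (f.appLE (V : Y.Opens) (X.basicOpen g) ((X.basicOpen_le g).trans e)).hom (RingHom.id _)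
        (X.presheaf.map (homOfLE (X.basicOpen_le g)).op).hom h :=
  ⟨_, (chartRes_eq _ _ _ _).trans (h1map_congr _ (map_self Y V le_rfl) rfl)⟩

variable (f) in
/-- The chart system of the first homology of the naive cotangent complex. -/
def sys : PSys f where
  M U V e := NLCx.ChartH1 f U V e
  grp U V e := inferInstance
  mod U V e := inferInstance
  r e e' hU hV := NLCx.chartRes e e' hU hV
  r_self {U V} e m := by
    rw [chartRes_eq, h1map_congr _ (map_self Y V le_rfl) (map_self X U le_rfl), h1map_id]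
  r_r e e' e'' hU hV hU' hV' m := by
    rw [chartRes_eq, chartRes_eq, chartRes_eq, h1map_comp]
    congr 1
    refine h1map_congr _ ?_ ?_
    · rw [← CommRingCat.hom_comp, ← Functor.map_comp]; rfl
    · rw [← CommRingCat.hom_comp, ← Functor.map_comp]; rfl
  r_smul e e' hU hV a m := by
    rw [chartRes_eq]
    exact h1map_smul _ _ _ _ _ _ _
  inj e e' hV := (chartRes_bijective e e' le_rfl hV).1
  surj e e' hV := (chartRes_bijective e e' le_rfl hV).2
  loc_inj {U V} e g m h := by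
    obtain ⟨h0, e0⟩ := chartRes_basic e g
    exact H1Map.loc_inj _ _ _ h0 g (U.2.isLocalization_basicOpen g) m (by rw [← e0]; exact h)
  loc_surj {U V} e g t := by
    obtain ⟨h0, e0⟩ := chartRes_basic e g
    obtain ⟨n, x, hx⟩ := H1Map.loc_surj _ _ _ h0 g (U.2.isLocalization_basicOpen g) t
    exact ⟨n, x, by rw [e0]; exact hx⟩

variable (f) in
/-- The sheaf `H^{-1}(NL_{X/Y})`. -/
def sheaf : X.Modules := (sys f).toSys.toModules

variable (f) in
/-- The sheaf `H^{-1}(NL_{X/Y})` has the expected sections. -/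
def h1Sheaf : NLCx.H1Sheaf f (sheaf f) where
  iso U V e := (sys f).toSys.evEquiv ⟨(U, V), e⟩
  map_smul U V e a m := (sys f).toSys.evEquiv_smul ⟨(U, V), e⟩ a m
  map_res {U U' V V'} e e' hU hV m :=
    (sys f).toSys.evEquiv_map (c := ⟨(U, V), e⟩) (d := ⟨(U', V'), e'⟩) ⟨hU, hV⟩ m

end K253.H1Chart
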