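import Groth.Agent.FlatMor.K253.H1Delta
import Groth.Agent.FlatMor.K253.H1Chart
import Groth.Agent.Fdesc.PullbackSec
import Groth.Agent.PerfA.IdealModule
import Groth.Agent.FormalA.PullbackQC
import Groth.Prelude.Def_Omega2

/-!
# The conormal sheaf and the first homology of the naive cotangent complex on chart pairs
-/

set_option autoImplicit false
universe u

open CategoryTheory TopologicalSpace Opposite AlgebraicGeometry
open Groth.Agent.Fdesc.PullbackSec Groth.Agent.PerfA

noncomputable section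

namespace K253.Conormal

open K253.H1Map K253.H1Delta K253.H1Chart

variable {Z X : Scheme.{u}} (i : Z ⟶ X) [QuasiCompact i]

lemma val_mem_ker {V : X.affineOpens} {U : Z.Opens} (e : U ≤ i ⁻¹ᵁ (V : X.Opens))
    (x : Γ(ClSub.idealMod i.ker, (V : X.Opens))) :
    IdealModule.val i.ker x ∈ RingHom.ker (i.appLE (V : X.Opens) U e).hom := by
  have h := IdealModule.val_mem i.ker V x
  rw [Scheme.Hom.ker_apply, RingHom.mem_ker] at h
  rw [RingHom.mem_ker, Scheme.Hom.appLE, CommRingCat.hom_comp, RingHom.comp_apply, h, map_zero]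

/-- The kernel element of a section of the ideal. -/
def kerLin {V : X.affineOpens} {U : Z.Opens} (e : U ≤ i ⁻¹ᵁ (V : X.Opens)) :
    Γ(ClSub.idealMod i.ker, (V : X.Opens)) →ₗ[Γ(X, (V : X.Opens))]
      RingHom.ker (i.appLE (V : X.Opens) U e).hom where
  toFun x := ⟨IdealModule.val i.ker x, val_mem_ker i e x⟩
  map_add' x y := Subtype.ext (map_add (Groth.Agent.CohqB.FiniteType2.appLinear
    (ClSub.idealModι i.ker) (V : X.Opens)) x y)
  map_smul' r x := Subtype.ext (IdealModule.val_smul i.ker r x)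

/-- The map from sections of the ideal to `H_1`. -/
def g {V : X.affineOpens} {U : Z.affineOpens} (e : (U : Z.Opens) ≤ i ⁻¹ᵁ (V : X.Opens)) :
    letI := secAlg i e
    Γ(ClSub.idealMod i.ker, (V : X.Opens)) →ₗ[Γ(X, (V : X.Opens))]
      Algebra.H1Cotangent Γ(X, (V : X.Opens)) Γ(Z, (U : Z.Opens)) :=
  letI := secAlg i e
  (delta Γ(X, (V : X.Opens)) Γ(Z, (U : Z.Opens))) ∘ₗ kerLin i e

lemma isBC {V : X.affineOpens} {U : Z.affineOpens} (e : (U : Z.Opens) ≤ i ⁻¹ᵁ (V : X.Opens)) :
    letI := secAlg i e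
    letI := secModule i e ((Scheme.Modules.pullback i).obj (ClSub.idealMod i.ker))
    haveI := isScalarTower_sec i e ((Scheme.Modules.pullback i).obj (ClSub.idealMod i.ker))
    IsBaseChange Γ(Z, (U : Z.Opens)) (pullSec i e (ClSub.idealMod i.ker)) :=
  isBaseChange_pullSec i e V.2 U.2 _ inferInstance
    (Groth.Agent.FormalA.PullbackQC.isQCoh_pullback i _ inferInstance)

/-- The comparison map on a chart pair. -/
def θ {V : X.affineOpens} {U : Z.affineOpens} (e : (U : Z.Opens) ≤ i ⁻¹ᵁ (V : X.Opens)) :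
    Γ(Omega.conormal i, (U : Z.Opens)) →ₗ[Γ(Z, (U : Z.Opens))] NLCx.ChartH1 i U V e :=
  letI := secAlg i e
  letI := secModule i e ((Scheme.Modules.pullback i).obj (ClSub.idealMod i.ker))
  haveI := isScalarTower_sec i e ((Scheme.Modules.pullback i).obj (ClSub.idealMod i.ker))
  (isBC i e).lift (g i e)

lemma θ_pullSec {V : X.affineOpens} {U : Z.affineOpens} (e : (U : Z.Opens) ≤ i ⁻¹ᵁ (V : X.Opens))
    (x : Γ(ClSub.idealMod i.ker, (V : X.Opens))) :
    letI := secModule i e ((Scheme.Modules.pullback i).obj (ClSub.idealMod i.ker))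
    θ i e (pullSec i e (ClSub.idealMod i.ker) x) =
      deltaH (i.appLE (V : X.Opens) (U : Z.Opens) e).hom ⟨_, val_mem_ker i e x⟩ := by
  letI := secAlg i e
  letI := secModule i e ((Scheme.Modules.pullback i).obj (ClSub.idealMod i.ker))
  haveI := isScalarTower_sec i e ((Scheme.Modules.pullback i).obj (ClSub.idealMod i.ker))
  exact (isBC i e).lift_eq (g i e) x

lemma induction {V : X.affineOpens} {U : Z.affineOpens} (e : (U : Z.Opens) ≤ i ⁻¹ᵁ (V : X.Opens))
    (P : Γ(Omega.conormal i, (U : Z.Opens)) → Prop) (h0 : P 0)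
    (h1 : ∀ x : Γ(ClSub.idealMod i.ker, (V : X.Opens)),
      letI := secModule i e ((Scheme.Modules.pullback i).obj (ClSub.idealMod i.ker))
      P (pullSec i e (ClSub.idealMod i.ker) x))
    (h2 : ∀ (b : Γ(Z, (U : Z.Opens))) s, P s → P (b • s)) (h3 : ∀ s t, P s → P t → P (s + t))
    (s : Γ(Omega.conormal i, (U : Z.Opens))) : P s := by
  letI := secAlg i e
  letI := secModule i e ((Scheme.Modules.pullback i).obj (ClSub.idealMod i.ker))
  haveI := isScalarTower_sec i e ((Scheme.Modules.pullback i).obj (ClSub.idealMod i.ker))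
  exact (isBC i e).inductionOn s P h0 h1 h2 h3

/-- restriction of sections of the conormal sheaf -/
abbrev rs {U U' : Z.Opens} (hU : U' ≤ U) (s : Γ(Omega.conormal i, U)) : Γ(Omega.conormal i, U') :=
  (Omega.conormal i).presheaf.map (homOfLE hU).op s

omit [QuasiCompact i] in
lemma rs_pullSec {V V' : X.Opens} {U U' : Z.Opens} (e : U ≤ i ⁻¹ᵁ V) (e' : U' ≤ i ⁻¹ᵁ V')
    (hU : U' ≤ U) (hV : V' ≤ V) (x : Γ(ClSub.idealMod i.ker, V)) :
    letI := secModule i e ((Scheme.Modules.pullback i).obj (ClSub.idealMod i.ker))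
    letI := secModule i e' ((Scheme.Modules.pullback i).obj (ClSub.idealMod i.ker))
    rs i hU (pullSec i e (ClSub.idealMod i.ker) x) = pullSec i e' (ClSub.idealMod i.ker)
      ((ClSub.idealMod i.ker).presheaf.map (homOfLE hV).op x) := by
  let M := ClSub.idealMod i.ker
  let u := (Scheme.Modules.pullbackPushforwardAdjunction i).unit.app M
  have h1 : u.app V' (M.presheaf.map (homOfLE hV).op x) =
      ((Scheme.Modules.pullback i).obj M).presheaf.map
        (homOfLE (show i ⁻¹ᵁ V' ≤ i ⁻¹ᵁ V from i.preimage_mono hV)).op (u.app V x) :=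
    ConcreteCategory.congr_hom (u.mapPresheaf.naturality (homOfLE hV).op) x
  rw [pullSec_apply, pullSec_apply, h1]
  change ((Scheme.Modules.pullback i).obj M).presheaf.map (homOfLE hU).op
    (((Scheme.Modules.pullback i).obj M).presheaf.map (homOfLE e).op _) =
    ((Scheme.Modules.pullback i).obj M).presheaf.map (homOfLE e').op _
  rw [← ConcreteCategory.comp_apply, ← ConcreteCategory.comp_apply, ← Functor.map_comp,
    ← Functor.map_comp]
  rfl

theorem θ_res {U U' : Z.affineOpens} {V V' : X.affineOpens}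
    (e : (U : Z.Opens) ≤ i ⁻¹ᵁ (V : X.Opens)) (e' : (U' : Z.Opens) ≤ i ⁻¹ᵁ (V' : X.Opens))
    (hU : (U' : Z.Opens) ≤ (U : Z.Opens)) (hV : (V' : X.Opens) ≤ (V : X.Opens))
    (s : Γ(Omega.conormal i, (U : Z.Opens))) :
    θ i e' (rs i hU s) = NLCx.chartRes e e' hU hV (θ i e s) := by
  refine induction i e (fun s => θ i e' (rs i hU s) = NLCx.chartRes e e' hU hV (θ i e s))
    ?_ ?_ ?_ ?_ s
  · simp only [rs, map_zero]
  · intro x
    have hx' : IdealModule.val i.ker ((ClSub.idealMod i.ker).presheaf.map (homOfLE hV).op x) =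
        (X.presheaf.map (homOfLE hV).op).hom (IdealModule.val i.ker x) :=
      IdealModule.val_res i.ker hV x
    have h2 := val_mem_ker i e' ((ClSub.idealMod i.ker).presheaf.map (homOfLE hV).op x)
    rw [rs_pullSec i e e' hU hV, θ_pullSec, θ_pullSec, chartRes_eq, h1map_deltaH (hx' := hx' ▸ h2)]
    congr 1
    exact Subtype.ext hx'
  · intro b s h
    have h1 : rs i hU (b • s) = (Z.presheaf.map (homOfLE hU).op).hom b • rs i hU s :=
      Scheme.Modules.map_smul (Omega.conormal i) (homOfLE hU) b s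
    rw [h1, map_smul, map_smul, h, chartRes_eq, h1map_smul]
  · intro s t hs ht
    simp only [rs, map_add] at *
    rw [hs, ht]

/-! ### Bijectivity over small opens -/

omit [QuasiCompact i] in
/-- Over affine opens in the coborder range of an immersion, functions lift. -/
lemma app_surjective [IsImmersion i] (V : X.Opens) (hV : IsAffineOpen V)
    (h : V ≤ i.coborderRange) : Function.Surjective (i.app V) ∧ IsAffineOpen (i ⁻¹ᵁ V) := by
  let W := i.coborderRange
  let V₀ : W.toScheme.Opens := W.ι ⁻¹ᵁ V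
  have hV₀ : IsAffineOpen V₀ := hV.preimage_of_isOpenImmersion W.ι
    (by rw [Scheme.Opens.opensRange_ι]; exact h)
  have e1 : W.ι ''ᵁ V₀ = V := by
    rw [W.ι.image_preimage_eq_opensRange_inf, Scheme.Opens.opensRange_ι]
    exact inf_eq_right.2 h
  have h1 := i.liftCoborder.app_surjective V₀ hV₀
  have h2 := liftCoborder_app i V₀
  have e2 : i.liftCoborder ⁻¹ᵁ V₀ = i ⁻¹ᵁ V := by
    rw [i.liftCoborder_preimage, e1]
  have h3 : Function.Surjective (i.app (W.ι ''ᵁ V₀)) := by
    intro y
    obtain ⟨x, hx⟩ := h1 (Z.presheaf.map (eqToHom <| i.liftCoborder_preimage V₀).op y)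
    refine ⟨x, ?_⟩
    apply (ConcreteCategory.bijective_of_isIso
      (Z.presheaf.map (eqToHom <| i.liftCoborder_preimage V₀).op)).1
    rw [← hx, h2]
    rfl
  refine ⟨?_, ?_⟩
  · rw [e1] at h3
    exact h3
  · rw [← e2]
    exact hV₀.preimage i.liftCoborder

/-- The kernel elements of the preimage chart. -/
lemma kerLin_bijective {V : X.affineOpens} :
    Function.Bijective (kerLin i (V := V) (U := i ⁻¹ᵁ (V : X.Opens)) le_rfl) := by
  constructor
  · intro x y h
    exact IdealModule.val_injective i.ker _ (congrArg Subtype.val h)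
  · rintro ⟨a, ha⟩
    have h1 : a ∈ i.ker.ideal V := by
      rw [Scheme.Hom.ker_apply]
      rw [RingHom.mem_ker] at ha ⊢
      have h2 : i.appLE (V : X.Opens) (i ⁻¹ᵁ (V : X.Opens)) le_rfl = i.app (V : X.Opens) := by
        rw [Scheme.Hom.app_eq_appLE]
      rw [← h2]
      exact ha
    obtain ⟨x, hx⟩ := IdealModule.exists_val_eq i.ker V h1
    exact ⟨x, Subtype.ext hx⟩

/-- Composition of a base change with an isomorphism. -/
lemma isBaseChange_comp_equiv {A B M N Q : Type*} [CommRing A] [CommRing B] [Algebra A B]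
    [AddCommGroup M] [Module A M] [AddCommGroup N] [Module A N] [AddCommGroup Q] [Module A Q]
    [Module B Q] [IsScalarTower A B Q] {f : N →ₗ[A] Q} (hf : IsBaseChange B f) (k : M →ₗ[A] N)
    (hk : Function.Bijective k) : IsBaseChange B (f ∘ₗ k) := by
  exact IsBaseChange.comp_equiv (LinearEquiv.ofBijective k hk) f hf

/-- The comparison map is bijective on small preimage charts. -/
theorem θ_bijective [IsImmersion i] {V : X.affineOpens} {U : Z.affineOpens}
    (hV : (V : X.Opens) ≤ i.coborderRange) (hU : (U : Z.Opens) = i ⁻¹ᵁ (V : X.Opens)) :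
    Function.Bijective (θ i (V := V) (U := U) hU.le) := by
  obtain ⟨U, hU'⟩ := U
  obtain rfl : U = i ⁻¹ᵁ (V : X.Opens) := hU
  let U : Z.affineOpens := ⟨i ⁻¹ᵁ (V : X.Opens), hU'⟩
  letI := secAlg i (U := (V : X.Opens)) (V := (U : Z.Opens)) le_rfl
  letI := secModule i (U := (V : X.Opens)) (V := (U : Z.Opens)) le_rfl
    ((Scheme.Modules.pullback i).obj (ClSub.idealMod i.ker))
  haveI := isScalarTower_sec i (U := (V : X.Opens)) (V := (U : Z.Opens)) le_rfl
    ((Scheme.Modules.pullback i).obj (ClSub.idealMod i.ker))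
  have hs : Function.Surjective (algebraMap Γ(X, (V : X.Opens)) Γ(Z, (U : Z.Opens))) := by
    have h1 := (app_surjective i V V.2 hV).1
    have h2 : i.appLE (V : X.Opens) (i ⁻¹ᵁ (V : X.Opens)) le_rfl = i.app (V : X.Opens) := by
      rw [Scheme.Hom.app_eq_appLE]
    rw [← h2] at h1
    exact h1
  have h1 : IsBaseChange Γ(Z, (U : Z.Opens)) (g i (V := V) (U := U) le_rfl) :=
    isBaseChange_comp_equiv (isBaseChange_delta hs) (kerLin i le_rfl) (kerLin_bijective i)
  exact lift_bijective (isBC i (V := V) (U := U) le_rfl) h1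

end K253.Conormal
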