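import Groth.Agent.FlatMor.K253.PairSys

/-!
# Comparison of a module with the module of a chart system
-/

set_option autoImplicit false
universe u

open CategoryTheory TopologicalSpace Opposite AlgebraicGeometry

noncomputable section

namespace K253.PairCompare

open K253.PairSys K253.ChartSys

variable {X Y : Scheme.{u}} {f : X ⟶ Y}

/-- restriction of sections -/
abbrev rs (G : X.Modules) {U V : X.Opens} (h : V ≤ U) (s : Γ(G, U)) : Γ(G, V) :=
  G.presheaf.map (homOfLE h).op s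

lemma rs_rs (G : X.Modules) {U V W : X.Opens} (h : V ≤ U) (h' : W ≤ V) (s : Γ(G, U)) :
    rs G h' (rs G h s) = rs G (h'.trans h) s := by
  change G.presheaf.map _ (G.presheaf.map _ s) = _
  rw [← ConcreteCategory.comp_apply, ← Functor.map_comp]
  rfl

lemma ext_of_nhds (G : X.Modules) {V : X.Opens} (s t : Γ(G, V))
    (h : ∀ x ∈ V, ∃ (W : X.Opens) (_ : x ∈ W) (hW : W ≤ V), rs G hW s = rs G hW t) : s = t := by
  choose W hx hW hst using h
  refine TopCat.Sheaf.eq_of_locally_eq' ⟨_, G.isSheaf⟩ (fun x : V => W x.1 x.2) V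
    (fun x => homOfLE (hW x.1 x.2)) ?_ s t fun x => hst x.1 x.2
  intro x hxV
  exact Opens.mem_iSup.2 ⟨⟨x, hxV⟩, hx x hxV⟩

lemma exists_glue (G : X.Modules) {ι : Type*} (U : ι → X.Opens) (V : X.Opens) (hV : V ≤ ⨆ i, U i)
    (hU : ∀ i, U i ≤ V) (s : ∀ i, Γ(G, U i))
    (h : ∀ i j, rs G (inf_le_left : U i ⊓ U j ≤ U i) (s i) =
      rs G (inf_le_right : U i ⊓ U j ≤ U j) (s j)) :
    ∃ t : Γ(G, V), ∀ i, rs G (hU i) t = s i := by
  obtain ⟨t, ht, -⟩ := TopCat.Sheaf.existsUnique_gluing' ⟨_, G.isSheaf⟩ U V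
    (fun i => homOfLE (hU i)) hV s h
  exact ⟨t, ht⟩

variable (D : PSys f) (G : X.Modules)
  (θ : ∀ c : Ch f, Γ(G, (c.1.1 : X.Opens)) →+ D.M c.1.1 c.1.2 c.2)
  (hres : ∀ (c d : Ch f) (h : d ≤ c) (s : Γ(G, (c.1.1 : X.Opens))),
    θ d (rs G h.1 s) = D.rr h (θ c s))
  (hloc : ∀ (c : Ch f) (x : X), x ∈ (c.1.1 : X.Opens) → ∃ d ≤ c, x ∈ (d.1.1 : X.Opens) ∧
    Function.Bijective (θ d))

include hres hloc

theorem injective (c : Ch f) : Function.Injective (θ c) := by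
  rw [injective_iff_map_eq_zero]
  intro s hs
  refine ext_of_nhds G s 0 fun x hx => ?_
  obtain ⟨d, hd, hxd, hb⟩ := hloc c x hx
  refine ⟨d.1.1, hxd, hd.1, hb.1 ?_⟩
  rw [hres c d hd, hs, map_zero, rs, map_zero, map_zero]

theorem surjective (c : Ch f) : Function.Surjective (θ c) := by
  intro n
  choose d hd hxd hb using fun x : (c.1.1 : X.Opens) => hloc c x.1 x.2
  choose s hs using fun x : (c.1.1 : X.Opens) => (hb x).2 (D.rr (hd x) n)
  obtain ⟨t, ht⟩ := exists_glue G (ι := (c.1.1 : X.Opens)) (fun x => ((d x).1.1 : X.Opens))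
    (c.1.1 : X.Opens) (fun x hx => Opens.mem_iSup.2 ⟨⟨x, hx⟩, hxd ⟨x, hx⟩⟩)
    (fun x => (hd x).1) s fun x y => by
      refine ext_of_nhds G _ _ fun z hz => ?_
      obtain ⟨e, he, he', hze⟩ := PairSys.exists_le_le (d x) (d y) z hz.1 hz.2
      refine ⟨e.1.1, hze, le_inf he.1 he'.1, ?_⟩
      refine injective D G θ hres hloc e ?_
      rw [rs_rs, rs_rs, hres _ _ he, hres _ _ he', hs, hs, D.rr_rr, D.rr_rr]
  refine ⟨t, ?_⟩
  refine D.eq_of c _ _ fun x hx => ⟨d ⟨x, hx⟩, hd ⟨x, hx⟩, hxd ⟨x, hx⟩, ?_⟩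
  rw [← hres c (d ⟨x, hx⟩) (hd ⟨x, hx⟩), ht ⟨x, hx⟩, hs]

theorem bijective (c : Ch f) : Function.Bijective (θ c) :=
  ⟨injective D G θ hres hloc c, surjective D G θ hres hloc c⟩

end K253.PairCompare
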