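import Groth.Agent.FlatMor.K253.Conormal
import Groth.Agent.FlatMor.K253.PairCompare
import Mathlib.AlgebraicGeometry.Morphisms.FormallyUnramified

/-!
# For an immersion the sheaf `H^{-1}` of the naive cotangent complex is the conormal sheaf
-/

set_option autoImplicit false
universe u

open CategoryTheory TopologicalSpace Opposite AlgebraicGeometry

noncomputable section

namespace K253.ConormalH1

open K253.H1Map K253.H1Chart K253.Conormal K253.PairSys

variable {Z X : Scheme.{u}} (i : Z ⟶ X) [QuasiCompact i] [IsImmersion i]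

omit [QuasiCompact i] in
lemma exists_good (c : Ch i) (x : Z) (hx : x ∈ (c.1.1 : Z.Opens)) :
    ∃ d ≤ c, x ∈ (d.1.1 : Z.Opens) ∧ (d.1.2 : X.Opens) ≤ i.coborderRange ∧
      (d.1.1 : Z.Opens) = i ⁻¹ᵁ (d.1.2 : X.Opens) := by
  obtain ⟨t, ht, htU⟩ := (i.isEmbedding.isInducing.isOpen_iff).1 (c.1.1 : Z.Opens).2
  have hx1 : i x ∈ t := by
    have : x ∈ i ⁻¹' t := by rw [htU]; exact hx
    exact this
  have hx2 : i x ∈ i.coborderRange := by
    have h1 : Set.range i ⊆ (i.coborderRange : Set X) := subset_coborder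
    exact h1 ⟨x, rfl⟩
  obtain ⟨_, ⟨V, hV, rfl⟩, hxV, hVt⟩ := X.isBasis_affineOpens.exists_subset_of_mem_open
    (a := i x) (u := ((c.1.2 : X.Opens) ⊓ i.coborderRange ⊓ ⟨t, ht⟩ : X.Opens))
    ⟨⟨c.2 hx, hx2⟩, hx1⟩ (Opens.isOpen _)
  have hVW : V ≤ i.coborderRange := fun y hy => (hVt hy).1.2
  refine ⟨⟨(⟨i ⁻¹ᵁ V, (app_surjective i V hV hVW).2⟩, ⟨V, hV⟩), le_rfl⟩, ⟨fun y hy => ?_,
    fun y hy => (hVt hy).1.1⟩, hxV, hVW, rfl⟩
  have h1 : y ∈ i ⁻¹' t := (hVt hy).2
  rw [htU] at h1
  exact h1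

/-- The comparison map is bijective on every chart pair. -/
theorem bijective (c : Ch i) : Function.Bijective (θ i c.2) := by
  refine PairCompare.bijective (sys i) (Omega.conormal i) (fun c => (θ i c.2).toAddMonoidHom)
    (fun c d h s => θ_res i c.2 d.2 h.1 h.2 s) (fun c x hx => ?_) c
  obtain ⟨d, hd, hxd, hV, hU⟩ := exists_good i c x hx
  exact ⟨d, hd, hxd, θ_bijective i hV hU⟩

/-- The conormal sheaf of a quasi-compact immersion is the sheaf `H^{-1}` of its naive cotangent
complex. -/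
def h1Sheaf : NLCx.H1Sheaf i (Omega.conormal i) where
  iso U V e := AddEquiv.ofBijective (θ i e).toAddMonoidHom (bijective i ⟨(U, V), e⟩)
  map_smul U V e a m := (θ i e).map_smul a m
  map_res e e' hU hV m := θ_res i e e' hU hV m

omit [QuasiCompact i] in
/-- The differentials of an immersion vanish. -/
theorem subsingleton_kaehler :
    NLCx.OnCharts i (fun A B _ _ _ => Subsingleton (KaehlerDifferential A B)) := by
  intro U V e
  have h : (i.appLE (V : X.Opens) (U : Z.Opens) e).hom.FormallyUnramified :=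
    i.formallyUnramified_appLE V.2 U.2 e
  let := (i.appLE (V : X.Opens) (U : Z.Opens) e).hom.toAlgebra
  have h1 : Algebra.FormallyUnramified Γ(X, (V : X.Opens)) Γ(Z, (U : Z.Opens)) := h
  exact (Algebra.formallyUnramified_iff _ _).1 h1

end K253.ConormalH1
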