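import Groth.Prelude.Def_SheafNL
import Mathlib.RingTheory.Extension.Cotangent.Basic
import Mathlib.RingTheory.IsTensorProduct
import Mathlib.RingTheory.Flat.Equalizer

/-!
# Base change of the two terms of the naive cotangent complex (same-variables presentations)

For a cocartesian square `R → S`, `R' → S'` and presentations `G` of `S/R`, `G'` of `S'/R'` on the same
variables: `S' ⊗_S (I/I²) → I'/I'²` is surjective, and bijective when `R' ⊗_R I → R' ⊗_R P` is
injective (e.g. `R'` or `S` flat over `R`); the map on `CotangentSpace`s is bijective for every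
commutative square.
-/

universe u

open TensorProduct MvPolynomial

namespace K253.CotBC

section Ext

variable {R S R' S' : Type u} [CommRing R] [CommRing S] [CommRing R'] [CommRing S']
  [Algebra R S] [Algebra R' S'] [Algebra R R'] [Algebra S S'] [Algebra R S']
  [IsScalarTower R R' S']
  {P : Algebra.Extension.{u} R S} {P' : Algebra.Extension.{u} R' S'}

/-- if the kernel of `P'` is generated by the kernel of `P`, then `S' ⊗ I/I² → I'/I'²` is onto -/
theorem cotangent_surjective (f : P.Hom P') (hker : P'.ker = P.ker.map f.toRingHom) :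
    Function.Surjective (LinearMap.liftBaseChange S' (Algebra.Extension.Cotangent.map f)) := by
  rw [← LinearMap.range_eq_top, eq_top_iff]
  rintro x -
  obtain ⟨⟨x, hx⟩, rfl⟩ := Algebra.Extension.Cotangent.mk_surjective x
  have hx' := hx
  rw [hker, Ideal.map] at hx'
  refine Submodule.span_induction (p := fun y hy => ∀ h : y ∈ P'.ker,
    Algebra.Extension.Cotangent.mk ⟨y, h⟩ ∈
      LinearMap.range (LinearMap.liftBaseChange S' (Algebra.Extension.Cotangent.map f)))
    ?_ ?_ ?_ ?_ hx' hx
  · rintro _ ⟨y, hy, rfl⟩ h
    exact ⟨1 ⊗ₜ Algebra.Extension.Cotangent.mk ⟨y, hy⟩, by simp⟩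
  · intro h
    have : (⟨0, h⟩ : P'.ker) = 0 := rfl
    rw [this, map_zero]
    exact zero_mem _
  · intro y z hy hz hy' hz' h
    have hy1 : y ∈ P'.ker := by rw [hker]; exact hy
    have hz1 : z ∈ P'.ker := by rw [hker]; exact hz
    have : (⟨y + z, h⟩ : P'.ker) = ⟨y, hy1⟩ + ⟨z, hz1⟩ := rfl
    rw [this, map_add]
    exact add_mem (hy' hy1) (hz' hz1)
  · intro a y hy hy' h
    have hy1 : y ∈ P'.ker := by rw [hker]; exact hy
    have : (⟨a • y, h⟩ : P'.ker) = a • ⟨y, hy1⟩ := rfl
    rw [this, map_smul, ← algebraMap_smul S' a]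
    exact Submodule.smul_mem _ _ (hy' hy1)

/-- compatibility of `bcH1Map` with composition on the right -/
theorem bcH1Map_comp {P'' : Algebra.Extension.{u} R' S'} (f : P.Hom P') (g : P'.Hom P'')
    (x : NLCx.bcH1 P S') :
    NLCx.bcH1Map (g.comp f) x = Algebra.Extension.H1Cotangent.map g (NLCx.bcH1Map f x) := by
  refine Subtype.ext ?_
  have h : LinearMap.liftBaseChange S' (Algebra.Extension.Cotangent.map (g.comp f)) =
      Algebra.Extension.Cotangent.map g ∘ₗ
        LinearMap.liftBaseChange S' (Algebra.Extension.Cotangent.map f) := by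
    refine LinearMap.ext fun y => ?_
    induction y with
    | zero => simp only [map_zero]
    | add a b ha hb => simp only [map_add, ha, hb]
    | tmul a b =>
      rw [LinearMap.comp_apply, LinearMap.liftBaseChange_tmul, LinearMap.liftBaseChange_tmul,
        map_smul, Algebra.Extension.Cotangent.map_comp]
      rfl
  exact LinearMap.congr_fun h x.1

variable [IsScalarTower R S S']

/-- `bcH1Map` does not depend on the morphism of extensions. -/
theorem bcH1Map_eq (f g : P.Hom P') : NLCx.bcH1Map f = NLCx.bcH1Map g := by
  refine LinearMap.ext fun x => Subtype.ext ?_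
  have hsub : LinearMap.liftBaseChange S' (Algebra.Extension.Cotangent.map f) -
      LinearMap.liftBaseChange S' (Algebra.Extension.Cotangent.map g) =
      LinearMap.liftBaseChange S' (f.sub g) ∘ₗ P.cotangentComplex.baseChange S' := by
    refine LinearMap.ext fun y => ?_
    induction y with
    | zero => simp only [map_zero]
    | add a b ha hb => simp only [map_add, ha, hb]
    | tmul a b =>
      rw [LinearMap.sub_apply, LinearMap.comp_apply, LinearMap.liftBaseChange_tmul,
        LinearMap.liftBaseChange_tmul, LinearMap.baseChange_tmul, LinearMap.liftBaseChange_tmul,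
        ← smul_sub]
      congr 1
      exact LinearMap.congr_fun (Algebra.Extension.Cotangent.map_sub_map f g) b
  have h := LinearMap.congr_fun hsub x.1
  have hx : P.cotangentComplex.baseChange S' x.1 = 0 := x.2
  rw [LinearMap.sub_apply, LinearMap.comp_apply, hx, map_zero, sub_eq_zero] at h
  exact h

end Ext

section Poly

variable {R S R' S' : Type u} [CommRing R] [CommRing S] [CommRing R'] [CommRing S']
  [Algebra R S] [Algebra R' S'] [Algebra R R'] [Algebra S S'] [Algebra R S']
  [IsScalarTower R R' S'] [IsScalarTower R S S'] {ι : Type u}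

theorem aeval_algebraMap_comp (v : ι → S) (p : MvPolynomial ι R) :
    MvPolynomial.aeval (R := R) (fun i => algebraMap S S' (v i)) p =
      algebraMap S S' (MvPolynomial.aeval v p) := by
  rw [MvPolynomial.map_aeval, MvPolynomial.aeval_def, ← IsScalarTower.algebraMap_eq]
  rfl

/-- pure polynomial form: the kernel of the base-changed presentation is generated by the kernel -/
theorem mem_map_of_aeval_eq_zero [Algebra.IsPushout R R' S S'] (v : ι → S)
    (hv : Function.Surjective (MvPolynomial.aeval (R := R) v)) (p' : MvPolynomial ι R')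
    (hp' : MvPolynomial.aeval (R := R') (fun i => algebraMap S S' (v i)) p' = 0) :
    p' ∈ (RingHom.ker (MvPolynomial.aeval (R := R) v)).map
      (MvPolynomial.map (σ := ι) (algebraMap R R')) := by
  let I' : Ideal (MvPolynomial ι R') :=
    (RingHom.ker (MvPolynomial.aeval (R := R) v)).map (MvPolynomial.map (algebraMap R R'))
  let Q := MvPolynomial ι R' ⧸ I'
  let q : MvPolynomial ι R' →ₐ[R'] Q := Ideal.Quotient.mkₐ R' I'
  let f1 : R' →ₐ[R] Q := IsScalarTower.toAlgHom R R' Q
  let g0 : MvPolynomial ι R →ₐ[R] Q := (q.restrictScalars R).comp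
    (MvPolynomial.mapAlgHom (σ := ι) (Algebra.ofId R R'))
  let aS : MvPolynomial ι R →ₐ[R] S := MvPolynomial.aeval v
  have hkerS : ∀ p : MvPolynomial ι R, aS p = 0 → g0 p = 0 := fun p hp =>
    Ideal.Quotient.eq_zero_iff_mem.2 (Ideal.mem_map_of_mem _ hp)
  let g1 : S →ₐ[R] Q := (Ideal.Quotient.liftₐ (RingHom.ker aS) g0 (fun p hp => hkerS p hp)).comp
    (Ideal.quotientKerAlgEquivOfSurjective hv).symm.toAlgHom
  have hg1 : ∀ p : MvPolynomial ι R, g1 (aS p) = g0 p := by
    intro p
    have h1 : (Ideal.quotientKerAlgEquivOfSurjective hv).symm (aS p) =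
        Ideal.Quotient.mk _ p := by
      rw [AlgEquiv.symm_apply_eq]
      rfl
    change Ideal.Quotient.liftₐ (RingHom.ker aS) g0 (fun p hp => hkerS p hp)
      ((Ideal.quotientKerAlgEquivOfSurjective hv).symm (aS p)) = _
    rw [h1]
    rfl
  let d : S' →ₐ[R] Q := Algebra.pushoutDesc S' f1 g1 (fun _ _ => mul_comm _ _)
  have hd : ∀ p : MvPolynomial ι R',
      d (MvPolynomial.aeval (fun i => algebraMap S S' (v i)) p) = q p := by
    intro p
    induction p using MvPolynomial.induction_on with
    | C r =>
      rw [MvPolynomial.aeval_C, Algebra.pushoutDesc_left]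
      rfl
    | add a b ha hb => rw [map_add, map_add, map_add, ha, hb]
    | mul_X a i ha =>
      rw [map_mul, map_mul, map_mul, ha, MvPolynomial.aeval_X]
      congr 1
      have h2 := Algebra.pushoutDesc_right S' f1 g1 (fun _ _ => mul_comm _ _) (v i)
      have h3 : aS (MvPolynomial.X i) = v i := MvPolynomial.aeval_X _ _
      have h4 := hg1 (MvPolynomial.X i)
      rw [h3] at h4
      refine h2.trans (h4.trans ?_)
      change q (MvPolynomial.map (algebraMap R R') (MvPolynomial.X i)) = q (MvPolynomial.X i)
      rw [MvPolynomial.map_X]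
  have h1 : q p' = 0 := by rw [← hd, hp', map_zero]
  exact Ideal.Quotient.eq_zero_iff_mem.1 h1

theorem surjective_aeval_of_isPushout [Algebra.IsPushout R R' S S'] (v : ι → S)
    (hv : Function.Surjective (MvPolynomial.aeval (R := R) v)) :
    Function.Surjective (MvPolynomial.aeval (R := R') (fun i => algebraMap S S' (v i))) := by
  intro s'
  let e := Algebra.IsPushout.equiv R R' S S'
  obtain ⟨t, rfl⟩ := e.surjective s'
  induction t with
  | zero => exact ⟨0, by simp⟩
  | add x y hx hy =>
    obtain ⟨a, ha⟩ := hx
    obtain ⟨b, hb⟩ := hy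
    exact ⟨a + b, by simp [ha, hb]⟩
  | tmul r s =>
    obtain ⟨p, hp⟩ := hv s
    refine ⟨MvPolynomial.C r * MvPolynomial.map (algebraMap R R') p, ?_⟩
    rw [map_mul, MvPolynomial.aeval_C, MvPolynomial.aeval_map_algebraMap,
      aeval_algebraMap_comp, hp]
    exact (Algebra.IsPushout.equiv_tmul R R' S S' r s).symm

end Poly

section Gen

variable {R S R' S' : Type u} [CommRing R] [CommRing S] [CommRing R'] [CommRing S']
  [Algebra R S] [Algebra R' S'] [Algebra R R'] [Algebra S S'] [Algebra R S']
  [IsScalarTower R R' S'] [IsScalarTower R S S']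
  {ι : Type u} (G : Algebra.Generators R S ι) (G' : Algebra.Generators R' S' ι)
  (h : ∀ i, G'.val i = algebraMap S S' (G.val i))

omit [IsScalarTower R S S'] in
/-- the ring map underlying `sameVarsHom` -/
theorem toRingHom_sameVarsHom [IsScalarTower R S S'] (p : MvPolynomial ι R) :
    (NLCx.sameVarsHom G G' h).toExtensionHom.toRingHom p =
      MvPolynomial.map (algebraMap R R') p := by
  change MvPolynomial.aeval (R := R) (fun i => (MvPolynomial.X i : MvPolynomial ι R')) p = _
  induction p using MvPolynomial.induction_on with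
  | C r => rw [MvPolynomial.aeval_C, MvPolynomial.map_C]; rfl
  | add a b ha hb => rw [map_add, map_add, ha, hb]
  | mul_X a i ha => rw [map_mul, map_mul, ha, MvPolynomial.aeval_X, MvPolynomial.map_X]

/-- the base-changed presentation exists -/
theorem exists_baseChange [Algebra.IsPushout R R' S S'] :
    ∃ G' : Algebra.Generators R' S' ι, ∀ i, G'.val i = algebraMap S S' (G.val i) :=
  ⟨Algebra.Generators.ofSurjective (fun i => algebraMap S S' (G.val i))
    (surjective_aeval_of_isPushout G.val G.aeval_val_surjective), fun _ => rfl⟩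

omit [IsScalarTower R S S'] [Algebra R S'] [IsScalarTower R R' S'] [Algebra R R'] [CommRing S']
  [Algebra R' S'] [CommRing R'] [Algebra S S'] in
theorem mem_ker_iff (p : MvPolynomial ι R) :
    p ∈ (RingHom.ker (algebraMap G.toExtension.Ring S) : Ideal (MvPolynomial ι R)) ↔
      MvPolynomial.aeval G.val p = 0 := by
  rw [← Algebra.Generators.algebraMap_apply]
  exact Iff.rfl

/-- for a cocartesian square the kernel of the base-changed presentation is generated by the kernel -/
theorem ker_eq_map [Algebra.IsPushout R R' S S'] :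
    G'.toExtension.ker = G.toExtension.ker.map
      (NLCx.sameVarsHom G G' h).toExtensionHom.toRingHom := by
  have hval : G'.val = fun i => algebraMap S S' (G.val i) := funext h
  refine le_antisymm ?_ ?_
  · intro p' hp'
    have h0 : MvPolynomial.aeval (R := R') (fun i => algebraMap S S' (G.val i)) p' = 0 := by
      have := (mem_ker_iff G' p').1 hp'
      rwa [hval] at this
    have h1 := mem_map_of_aeval_eq_zero (R := R) (R' := R') (S' := S') G.val
      G.aeval_val_surjective p' h0
    refine (Ideal.map_le_iff_le_comap (I := RingHom.ker (MvPolynomial.aeval (R := R) G.val))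
      (K := (G.toExtension.ker.map (NLCx.sameVarsHom G G' h).toExtensionHom.toRingHom :
        Ideal (MvPolynomial ι R')))
      (f := (MvPolynomial.map (σ := ι) (algebraMap R R')))).2 ?_ h1
    intro p hp
    have h2 := Ideal.mem_map_of_mem (NLCx.sameVarsHom G G' h).toExtensionHom.toRingHom
      (show p ∈ G.toExtension.ker from (mem_ker_iff G p).2 hp)
    have h3 := toRingHom_sameVarsHom G G' h p
    rw [Ideal.mem_comap]
    exact (congrArg (fun x => x ∈ (G.toExtension.ker.map
      (NLCx.sameVarsHom G G' h).toExtensionHom.toRingHom : Ideal (MvPolynomial ι R'))) h3).mp h2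
  · refine Ideal.map_le_iff_le_comap.2 fun p hp => ?_
    have h0 : MvPolynomial.aeval G.val p = 0 := (mem_ker_iff G p).1 hp
    refine (mem_ker_iff G' _).2 ?_
    have h3 := toRingHom_sameVarsHom G G' h p
    refine (congrArg (MvPolynomial.aeval G'.val) h3).trans ?_
    refine (MvPolynomial.aeval_map_algebraMap R' G'.val p).trans ?_
    rw [hval]
    refine (aeval_algebraMap_comp (R := R) (S := S) (S' := S') G.val p).trans ?_
    rw [h0, map_zero]

/-- the map on cotangent spaces is bijective for presentations on the same variables -/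
theorem cotangentSpace_bijective :
    Function.Bijective (LinearMap.liftBaseChange S'
      (Algebra.Extension.CotangentSpace.map (NLCx.sameVarsHom G G' h).toExtensionHom)) := by
  let b : Module.Basis ι S' (S' ⊗[S] G.toExtension.CotangentSpace) :=
    G.cotangentSpaceBasis.baseChange S'
  let b' : Module.Basis ι S' G'.toExtension.CotangentSpace := G'.cotangentSpaceBasis
  let e : (S' ⊗[S] G.toExtension.CotangentSpace) ≃ₗ[S'] G'.toExtension.CotangentSpace :=
    b.equiv b' (Equiv.refl ι)
  have he : LinearMap.liftBaseChange S'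
      (Algebra.Extension.CotangentSpace.map (NLCx.sameVarsHom G G' h).toExtensionHom) =
      e.toLinearMap := by
    refine b.ext fun i => ?_
    rw [LinearEquiv.coe_coe, Module.Basis.equiv_apply, Module.Basis.baseChange_apply,
      LinearMap.liftBaseChange_tmul, one_smul, Equiv.refl_apply,
      Algebra.Generators.cotangentSpaceBasis_apply]
    have h1 := Algebra.Extension.CotangentSpace.map_tmul
      (NLCx.sameVarsHom G G' h).toExtensionHom (1 : S) (MvPolynomial.X i)
    refine h1.trans ?_
    have h2 : b' i = ((1 : S') ⊗ₜ[G'.Ring] KaehlerDifferential.D R' G'.Ring (MvPolynomial.X i) :) :=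
      Algebra.Generators.cotangentSpaceBasis_apply G' i
    refine Eq.trans ?_ h2.symm
    have h3 : (NLCx.sameVarsHom G G' h).toExtensionHom.toAlgHom (MvPolynomial.X i) =
      (MvPolynomial.X i : MvPolynomial ι R') := by
      change (NLCx.sameVarsHom G G' h).toAlgHom (MvPolynomial.X i) = _
      rw [Algebra.Generators.Hom.toAlgHom_X]
      rfl
    refine congrArg₂ (fun (a : S') (b : MvPolynomial ι R') =>
      ((a ⊗ₜ[G'.Ring] KaehlerDifferential.D R' G'.Ring b :) :
        G'.toExtension.CotangentSpace)) ?_ h3
    exact map_one _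
  rw [he]
  exact e.bijective

end Gen

end K253.CotBC
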