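import Groth.Agent.FlatMor.K253.CotBC
import Mathlib.RingTheory.TensorProduct.MvPolynomial

/-!
# Injectivity of `S' ⊗_S (I/I²) → I'/I'²` for a base change without `Tor₁`
-/

universe u

open TensorProduct MvPolynomial

namespace K253.CotInj

variable {R S R' S' : Type u} [CommRing R] [CommRing S] [CommRing R'] [CommRing S']
  [Algebra R S] [Algebra R' S'] [Algebra R R'] [Algebra S S'] [Algebra R S']
  [IsScalarTower R R' S'] [IsScalarTower R S S']
  {ι : Type u} (G : Algebra.Generators R S ι) (G' : Algebra.Generators R' S' ι)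
  (h : ∀ i, G'.val i = algebraMap S S' (G.val i))

/-- the kernel ideal as an ideal of the polynomial ring -/
noncomputable abbrev kerI : Ideal (MvPolynomial ι R) := G.toExtension.ker

/-- the class in `I/I²` of an element of the kernel, as an `R`-linear map -/
noncomputable def mkR : (kerI G).restrictScalars R →ₗ[R] G.toExtension.Cotangent where
  toFun x := Algebra.Extension.Cotangent.mk ⟨x.1, x.2⟩
  map_add' x y := map_add Algebra.Extension.Cotangent.mk (⟨x.1, x.2⟩ : G.toExtension.ker) ⟨y.1, y.2⟩
  map_smul' r x := by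
    have h1 := map_smul (Algebra.Extension.Cotangent.mk (P := G.toExtension))
      (algebraMap R G.toExtension.Ring r) (⟨x.1, x.2⟩ : G.toExtension.ker)
    have h2 : (⟨(r • x).1, (r • x).2⟩ : G.toExtension.ker) =
        algebraMap R G.toExtension.Ring r • (⟨x.1, x.2⟩ : G.toExtension.ker) := by
      refine Subtype.ext ?_
      exact Algebra.smul_def r x.1
    refine (congrArg _ h2).trans (h1.trans ?_)
    rw [RingHom.id_apply, algebraMap_smul]

theorem mkR_apply (x : (kerI G).restrictScalars R) :
    mkR G x = Algebra.Extension.Cotangent.mk ⟨x.1, x.2⟩ := rfl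

/-- `R' ⊗_R I → S' ⊗_S I/I²` -/
noncomputable def phi (S' : Type u) [CommRing S'] [Algebra R' S'] [Algebra S S'] [Algebra R S']
    [IsScalarTower R R' S'] [IsScalarTower R S S'] :
    R' ⊗[R] ((kerI G).restrictScalars R) →ₗ[R'] S' ⊗[S] G.toExtension.Cotangent :=
  LinearMap.liftBaseChange R'
    (((TensorProduct.mk S S' G.toExtension.Cotangent 1).restrictScalars R) ∘ₗ mkR G)

theorem phi_tmul (r : R') (x : (kerI G).restrictScalars R) :
    phi G S' (r ⊗ₜ x) = r • ((1 : S') ⊗ₜ[S] mkR G x) := by
  rw [phi, LinearMap.liftBaseChange_tmul]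
  rfl

theorem phi_surjective [Algebra.IsPushout R R' S S'] :
    Function.Surjective (phi (R' := R') G S') := by
  rw [← LinearMap.range_eq_top, eq_top_iff]
  rintro x -
  induction x with
  | zero => exact zero_mem _
  | add a b ha hb => exact add_mem ha hb
  | tmul s' m =>
    let e := Algebra.IsPushout.equiv R R' S S'
    obtain ⟨t, rfl⟩ := e.surjective s'
    induction t with
    | zero => rw [map_zero, TensorProduct.zero_tmul]; exact zero_mem _
    | add a b ha hb => rw [map_add, TensorProduct.add_tmul]; exact add_mem ha hb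
    | tmul r s =>
      obtain ⟨⟨x, hx⟩, rfl⟩ := Algebra.Extension.Cotangent.mk_surjective m
      obtain ⟨p, rfl⟩ := G.toExtension.algebraMap_surjective s
      refine ⟨r ⊗ₜ ⟨p * x, Ideal.mul_mem_left _ _ hx⟩, ?_⟩
      rw [phi_tmul]
      have h1 : e (r ⊗ₜ[R] algebraMap G.toExtension.Ring S p) =
          r • (algebraMap G.toExtension.Ring S p • (1 : S')) := by
        rw [Algebra.IsPushout.equiv_tmul, Algebra.smul_def, Algebra.smul_def, mul_one]
      rw [h1, ← TensorProduct.smul_tmul', TensorProduct.smul_tmul]
      congr 1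
      congr 1
      have h3 := map_smul (Algebra.Extension.Cotangent.mk (P := G.toExtension)) p ⟨x, hx⟩
      rw [algebraMap_smul]
      exact h3

/-- `R' ⊗_R I → P'` -/
noncomputable def psi : R' ⊗[R] ((kerI G).restrictScalars R) →ₗ[R] MvPolynomial ι R' :=
  ((algebraTensorAlgEquiv (σ := ι) R R').toLinearMap.restrictScalars R) ∘ₗ
    ((kerI G).restrictScalars R).subtype.lTensor R'

theorem psi_tmul (r : R') (x : (kerI G).restrictScalars R) :
    psi G (r ⊗ₜ x) = r • MvPolynomial.map (algebraMap R R') x.1 := by
  change algebraTensorAlgEquiv R R' (((kerI G).restrictScalars R).subtype.lTensor R' (r ⊗ₜ x)) = _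
  rw [LinearMap.lTensor_tmul, algebraTensorAlgEquiv_tmul]
  rfl

include h in
theorem psi_mem (w : R' ⊗[R] ((kerI G).restrictScalars R)) : psi G w ∈ kerI G' := by
  induction w with
  | zero => rw [map_zero]; exact zero_mem _
  | add a b ha hb => rw [map_add]; exact add_mem ha hb
  | tmul r x =>
    rw [psi_tmul]
    refine (CotBC.mem_ker_iff G' _).2 ?_
    rw [map_smul, MvPolynomial.aeval_map_algebraMap, show G'.val = _ from funext h,
      CotBC.aeval_algebraMap_comp]
    have : MvPolynomial.aeval G.val x.1 = 0 := (CotBC.mem_ker_iff G x.1).1 x.2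
    rw [this, map_zero, smul_zero]

/-- the composite `R' ⊗_R I → S' ⊗_S I/I² → I'/I'²` -/
theorem map_phi (w : R' ⊗[R] ((kerI G).restrictScalars R)) :
    LinearMap.liftBaseChange S' (Algebra.Extension.Cotangent.map
      (NLCx.sameVarsHom G G' h).toExtensionHom) (phi G S' w) =
    mkR G' ⟨psi G w, psi_mem G G' h w⟩ := by
  induction w with
  | zero =>
    rw [map_zero, map_zero]
    symm
    refine (congrArg (mkR G') (Subtype.ext ?_)).trans (map_zero (mkR G'))
    exact map_zero (psi G)
  | add a b ha hb =>
    rw [map_add, map_add, ha, hb, ← map_add]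
    congr 1
    refine Subtype.ext ?_
    exact (map_add (psi G) a b).symm
  | tmul r x =>
    rw [phi_tmul]
    have h0 := (LinearMap.liftBaseChange S' (Algebra.Extension.Cotangent.map
      (NLCx.sameVarsHom G G' h).toExtensionHom)).map_smul_of_tower r ((1 : S') ⊗ₜ[S] mkR G x)
    refine h0.trans ?_
    rw [LinearMap.liftBaseChange_tmul, one_smul, mkR_apply,
      Algebra.Extension.Cotangent.map_mk]
    have h1 : ∀ y : (kerI G').restrictScalars R', r • mkR G' y = mkR G' (r • y) := by
      intro y
      rw [map_smul]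
    refine (h1 ⟨_, _⟩).trans ?_
    congr 1
    refine Subtype.ext ?_
    refine Eq.trans ?_ (psi_tmul G r x).symm
    change r • ((NLCx.sameVarsHom G G' h).toExtensionHom.toRingHom x.1 : MvPolynomial ι R') = _
    congr 1
    exact CotBC.toRingHom_sameVarsHom G G' h x.1

/-- elements of `R' ⊗ I` coming from `R' ⊗ I²` are killed by `phi` -/
theorem phi_eq_zero (w : R' ⊗[R] ((kerI G ^ 2).restrictScalars R)) :
    phi G S' ((Submodule.inclusion (show (kerI G ^ 2).restrictScalars R ≤
      (kerI G).restrictScalars R from Ideal.pow_le_self (by norm_num))).lTensor R' w) = 0 := by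
  induction w with
  | zero => rw [map_zero, map_zero]
  | add a b ha hb => rw [map_add, map_add, ha, hb, add_zero]
  | tmul r x =>
    rw [LinearMap.lTensor_tmul, phi_tmul, mkR_apply]
    have : Algebra.Extension.Cotangent.mk (P := G.toExtension) ⟨x.1, Ideal.pow_le_self
        (by norm_num) x.2⟩ = 0 := by
      rw [Algebra.Extension.Cotangent.mk_eq_zero_iff]
      exact x.2
    refine (congrArg (fun y => r • ((1 : S') ⊗ₜ[S] y)) this).trans ?_
    rw [TensorProduct.tmul_zero, smul_zero]

/-- `S' ⊗_S (I/I²) → I'/I'²` is injective if `R' ⊗_R I → R' ⊗_R P` is. -/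
theorem cotangent_injective [Algebra.IsPushout R R' S S']
    (hinj : Function.Injective (((kerI G).restrictScalars R).subtype.lTensor R')) :
    Function.Injective (LinearMap.liftBaseChange S' (Algebra.Extension.Cotangent.map
      (NLCx.sameVarsHom G G' h).toExtensionHom)) := by
  rw [injective_iff_map_eq_zero]
  intro x hx
  obtain ⟨z, rfl⟩ := phi_surjective (R' := R') (S' := S') G x
  rw [map_phi G G' h z, mkR_apply, Algebra.Extension.Cotangent.mk_eq_zero_iff] at hx
  -- `I'^2` is generated by `I^2`
  have hk : kerI G' = (kerI G).map (MvPolynomial.map (σ := ι) (algebraMap R R')) := by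
    refine (CotBC.ker_eq_map G G' h).trans ?_
    have : (NLCx.sameVarsHom G G' h).toExtensionHom.toRingHom =
      MvPolynomial.map (σ := ι) (algebraMap R R') := RingHom.ext fun p =>
        CotBC.toRingHom_sameVarsHom G G' h p
    rw [this]
    rfl
  have hx1 : psi G z ∈ (kerI G ^ 2).map (MvPolynomial.map (σ := ι) (algebraMap R R')) := by
    rw [Ideal.map_pow, ← hk]
    exact hx
  let T := R' ⊗[R] MvPolynomial ι R
  let e : T ≃ₐ[R'] MvPolynomial ι R' := algebraTensorAlgEquiv R R'
  have hcomp : (e : T →+* MvPolynomial ι R').comp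
      (Algebra.TensorProduct.includeRight : MvPolynomial ι R →ₐ[R] T).toRingHom =
      MvPolynomial.map (σ := ι) (algebraMap R R') := by
    refine RingHom.ext fun p => ?_
    change e (1 ⊗ₜ p) = _
    rw [algebraTensorAlgEquiv_tmul, one_smul]
  have hx2 : ((kerI G).restrictScalars R).subtype.lTensor R' z ∈
      (kerI G ^ 2).map (Algebra.TensorProduct.includeRight : MvPolynomial ι R →ₐ[R] T) := by
    rw [← hcomp, ← Ideal.map_map] at hx1
    obtain ⟨y, hy, hy'⟩ := (Ideal.mem_map_iff_of_surjective (e : T →+* MvPolynomial ι R')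
      e.surjective).1 hx1
    have : y = ((kerI G).restrictScalars R).subtype.lTensor R' z := e.injective hy'
    rw [← this]
    exact hy
  have hx3 := Ideal.map_includeRight_eq (R := R) (A := R') (kerI G ^ 2)
  have hx4 : ((kerI G).restrictScalars R).subtype.lTensor R' z ∈
    LinearMap.range (LinearMap.lTensor R' (Submodule.subtype ((kerI G ^ 2).restrictScalars R))) := by
    rw [← hx3]
    exact hx2
  obtain ⟨w, hw⟩ := hx4
  have hz : z = (Submodule.inclusion (show (kerI G ^ 2).restrictScalars R ≤
      (kerI G).restrictScalars R from Ideal.pow_le_self (by norm_num))).lTensor R' w := by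
    apply hinj
    rw [← hw, ← LinearMap.comp_apply, ← LinearMap.lTensor_comp]
    rfl
  rw [hz]
  exact phi_eq_zero G w

/-- flat base change of the conormal module -/
theorem cotangent_bijective_of_flat [Algebra.IsPushout R R' S S'] [Module.Flat R R'] :
    Function.Bijective (LinearMap.liftBaseChange S' (Algebra.Extension.Cotangent.map
      (NLCx.sameVarsHom G G' h).toExtensionHom)) :=
  ⟨cotangent_injective G G' h (Module.Flat.lTensor_preserves_injective_linearMap _
    Subtype.val_injective), CotBC.cotangent_surjective _ (CotBC.ker_eq_map G G' h)⟩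

/-- base change of the conormal module of a flat algebra -/
theorem cotangent_bijective_of_flat' [Algebra.IsPushout R R' S S'] [Module.Flat R S] :
    Function.Bijective (LinearMap.liftBaseChange S' (Algebra.Extension.Cotangent.map
      (NLCx.sameVarsHom G G' h).toExtensionHom)) := by
  refine ⟨cotangent_injective G G' h ?_, CotBC.cotangent_surjective _ (CotBC.ker_eq_map G G' h)⟩
  refine LinearMap.lTensor_injective_of_exact_of_flat
    (MvPolynomial.aeval (R := R) G.val).toLinearMap G.aeval_val_surjective _
    Subtype.val_injective ?_ R'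
  intro p
  constructor
  · intro hp
    exact ⟨⟨p, (CotBC.mem_ker_iff G p).2 hp⟩, rfl⟩
  · rintro ⟨⟨p, hp⟩, rfl⟩
    exact (CotBC.mem_ker_iff G p).1 hp

end K253.CotInj
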