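import Groth.Agent.FlatMor.K253.CotBC
import Groth.Agent.Models.KoszulCot
import Groth.Agent.Models.NLIdeal
import Groth.Agent.Flat2H.KoszulPerf
import Mathlib.RingTheory.Flat.EquationalCriterion

/-!
# The conormal module `I/I²` of a presentation of a local complete intersection is finite projective
-/

set_option autoImplicit false
universe u

open TensorProduct

namespace K253.CotProj

section Retract

variable {R S : Type u} [CommRing R] [CommRing S] [Algebra R S]
  {P P' : Algebra.Extension.{u} R S}

/-- given maps of extensions in both directions, `I'/I'²` is a retract of `I/I² × (S ⊗ Ω_{P'})` -/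
theorem exists_retract (f : P.Hom P') (g : P'.Hom P) :
    ∃ (i : P'.Cotangent →ₗ[S] P.Cotangent × P'.CotangentSpace)
      (p : P.Cotangent × P'.CotangentSpace →ₗ[S] P'.Cotangent), p ∘ₗ i = LinearMap.id := by
  refine ⟨(Algebra.Extension.Cotangent.map g).prod P'.cotangentComplex,
    (Algebra.Extension.Cotangent.map f).coprod (-((f.comp g).sub (.id P'))), ?_⟩
  refine LinearMap.ext fun x => ?_
  have := LinearMap.congr_fun (Algebra.Extension.Cotangent.map_sub_map (f.comp g) (.id P')) x
  rw [Algebra.Extension.Cotangent.map_comp, Algebra.Extension.Cotangent.map_id,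
    LinearMap.sub_apply, sub_eq_iff_eq_add] at this
  change Algebra.Extension.Cotangent.map f (Algebra.Extension.Cotangent.map g x) = _ at this
  change Algebra.Extension.Cotangent.map f (Algebra.Extension.Cotangent.map g x) +
    (-((f.comp g).sub (.id P'))) (P'.cotangentComplex x) = x
  rw [this, LinearMap.comp_apply, LinearMap.neg_apply, LinearMap.id_apply]
  abel

theorem projective_of_homs (f : P.Hom P') (g : P'.Hom P) [Module.Projective S P.Cotangent]
    [Module.Projective S P'.CotangentSpace] : Module.Projective S P'.Cotangent := by
  obtain ⟨i, p, h⟩ := exists_retract f g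
  exact Module.Projective.of_split i p h

theorem finite_of_homs (f : P.Hom P') (g : P'.Hom P) [Module.Finite S P.Cotangent]
    [Module.Finite S P'.CotangentSpace] : Module.Finite S P'.Cotangent := by
  obtain ⟨i, p, h⟩ := exists_retract f g
  exact Module.Finite.of_surjective p (fun x => ⟨i x, LinearMap.congr_fun h x⟩)

end Retract

section Koszul

variable {A B : Type u} [CommRing A] [CommRing B] [Algebra A B]

/-- the conormal module of a Koszul-regular extension is finite projective -/
theorem of_koszul (E : Algebra.Extension.{u} A B) (h : LCI.IsKoszulRegularIdeal E.ker) :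
    Module.Finite B E.Cotangent ∧ Module.Projective B E.Cotangent := by
  have h1 := Groth.Agent.Flat2H.KoszulPerf.fpInf_quotient h
  have h2 : Groth.Agent.Flat2H.FPInf E.Ring (LinearMap.ker E.ker.mkQ) :=
    Groth.Agent.Flat2H.FPInf.ker _ (Submodule.mkQ_surjective _)
      (Groth.Agent.Flat2H.FPInf.of_projective _) h1
  have h3 : Module.FinitePresentation E.Ring (LinearMap.ker E.ker.mkQ) := by
    obtain ⟨k, f, hf, hk⟩ := h2 1
    have : Module.Finite E.Ring (LinearMap.ker f) := hk.finite
    exact Module.finitePresentation_of_surjective f hf (Module.Finite.iff_fg.1 this)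
  have h4 : Module.FinitePresentation E.Ring E.ker := by
    have : LinearMap.ker E.ker.mkQ = E.ker := Submodule.ker_mkQ _
    rw [this] at h3
    exact h3
  have h5 : Module.FinitePresentation B (B ⊗[E.Ring] E.ker) := inferInstance
  have h6 : Module.FinitePresentation B E.Cotangent := Module.FinitePresentation.of_equiv E.cotangentEquiv
  have h7 : Module.Flat B E.Cotangent :=
    (Groth.Agent.Models.NLIdeal.flat_cotangent_iff E).2
      (Groth.Agent.Models.KoszulCot.flat_cotangent h)
  exact ⟨inferInstance, Module.Flat.projective_of_finitePresentation⟩

/-- for a local complete intersection, `I/I²` is finite projective for every presentation in finitely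
many variables -/
theorem of_isLCI (h : LCI.IsLCI A B) {ι : Type u} [Finite ι] (G : Algebra.Generators A B ι) :
    Module.Finite B G.toExtension.Cotangent ∧ Module.Projective B G.toExtension.Cotangent := by
  obtain ⟨-, n, f, hf, hK⟩ := h
  let P : Algebra.Generators A B (Fin n) := Algebra.Generators.ofAlgHom f hf
  have hk : P.toExtension.ker = RingHom.ker f.toRingHom := Algebra.Generators.ker_ofAlgHom f hf
  obtain ⟨h1, h2⟩ := of_koszul P.toExtension (hk ▸ hK)
  have h3 : Module.Finite B G.toExtension.CotangentSpace :=
    Module.Finite.of_basis G.cotangentSpaceBasis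
  have h4 : Module.Projective B G.toExtension.CotangentSpace := inferInstance
  exact ⟨finite_of_homs (P.defaultHom G).toExtensionHom (G.defaultHom P).toExtensionHom,
    projective_of_homs (P.defaultHom G).toExtensionHom (G.defaultHom P).toExtensionHom⟩

end Koszul

end K253.CotProj
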