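import Groth.Agent.KSix.K240.RelFlat
import Groth.Agent.EtpbcB.ClosedImmEtale

/-!
# Relative pseudo-coherence descends along etale morphisms of the source
-/

set_option autoImplicit false
universe u
open CategoryTheory CategoryTheory.Limits AlgebraicGeometry CategoryTheory.Pretriangulated
open Groth.Agent.PerfA Groth.Agent.PerfA.Restrict Groth.Agent.PerfC.PcLocal
open Groth.Agent.PerfC.ClosedImmPc K240.PushTest K240.ChartChange K240.RelData K240.RelChart
open Groth.Agent.PerfB.FlatPull K240.RelBasic K240.RelFlat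
attribute [local instance] HasDerivedCategory.standard

namespace K253.EtDesc

/-- The corestriction of a flat open map to its image. -/
lemma exists_image_fac {V P : Scheme.{u}} (q : V ⟶ P) [Flat q] (hq : IsOpenMap q) :
    ∃ (N : P.Opens) (q' : V ⟶ N.toScheme), q' ≫ N.ι = q ∧ Surjective q' ∧ Flat q' := by
  let N : P.Opens := ⟨Set.range q, hq.isOpen_range⟩
  have hN : Set.range q ⊆ Set.range N.ι := by
    rw [Scheme.Opens.range_ι]
    rintro _ ⟨v, rfl⟩
    exact ⟨v, rfl⟩
  refine ⟨N, IsOpenImmersion.lift N.ι q hN, IsOpenImmersion.lift_fac _ _ _, ⟨fun n => ?_⟩,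
    flat_lift q N.ι hN⟩
  obtain ⟨v, hv⟩ : (N.ι n) ∈ Set.range q := n.2
  refine ⟨v, N.ι.injective ?_⟩
  rw [← Scheme.Hom.comp_apply, IsOpenImmersion.lift_fac, hv]

/-- Etale descent at a point. -/
theorem at_of_etale {X S U : Scheme.{u}} (p : X ⟶ S) [LocallyOfFiniteType p] (e : U ⟶ X) [Etale e]
    (x : U) {m : ℤ} {E : DCoh.D X}
    (h : DerSch.IsPseudoCoherentRel (e ≫ p) m ((pullbackD e).obj E)) : At p m E (e x) := by
  obtain ⟨D, w, hw, hP, -⟩ := exists_datum p (e x) ⊤ trivial
  -- the piece of `U` over `D.W`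
  obtain ⟨x₁, hx₁, hx₁'⟩ := Scheme.exists_preimage_of_isPullback (IsPullback.of_hasPullback D.j e)
    w x hw
  obtain ⟨V, q, _, W₁, j, r, _, ⟨y, hy⟩, sq⟩ :=
    Groth.Agent.EtpbcB.ClosedImmEtale.exists_etale_lift D.i (pullback.fst D.j e) x₁
  -- an affine piece of `V`
  obtain ⟨V₀, hV₀, hyV₀, -⟩ := exists_isAffineOpen_mem_and_subset (x := r y) (U := ⊤) trivial
  have hA : IsAffine V₀.toScheme := hV₀
  obtain ⟨N, q', hq', _, _⟩ := exists_image_fac (V₀.ι ≫ q) (V₀.ι ≫ q).isOpenMap
  have hqs : QuasiSeparatedSpace N.toScheme :=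
    QuasiSeparatedSpace.of_isOpenEmbedding (α := D.P) N.ι.isOpenEmbedding
  have hqc : QuasiCompact q' := inferInstance
  have hr : IsClosedImmersion r := MorphismProperty.of_isPullback sq.flip inferInstance
  -- the squares
  have sqN : IsPullback (pullback.fst D.i N.ι) (pullback.snd D.i N.ι) D.i N.ι :=
    IsPullback.of_hasPullback _ _
  have sq2 : IsPullback (pullback.snd r V₀.ι) (pullback.fst r V₀.ι ≫ (j ≫ pullback.fst D.j e))
      (q' ≫ N.ι) D.i := by
    rw [hq']
    exact (IsPullback.of_hasPullback r V₀.ι).flip.paste_vert sq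
  have sq3 := IsPullback.of_bot' sq2 sqN.flip
  set g₁ : pullback r V₀.ι ⟶ pullback D.i N.ι := sqN.flip.lift _ _ _ with hg₁
  have hg : g₁ ≫ pullback.fst D.i N.ι =
      pullback.fst r V₀.ι ≫ (j ≫ pullback.fst D.j e) := sqN.flip.lift_snd _ _ _
  have hfl : Flat g₁ := MorphismProperty.of_isPullback sq3 ‹Flat q'›
  -- the datum upstairs
  have hw' : pullback.snd r V₀.ι ≫ V₀.ι ≫ q ≫ D.p =
      (pullback.fst r V₀.ι ≫ j ≫ pullback.snd D.j e) ≫ e ≫ p := by
    rw [← pullback.condition_assoc, ← Category.assoc r, sq.w]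
    simp only [Category.assoc]
    rw [D.w, pullback.condition_assoc]
  let D' : Datum (e ≫ p) :=
    { W := pullback r V₀.ι
      P := V₀.toScheme
      j := pullback.fst r V₀.ι ≫ j ≫ pullback.snd D.j e
      i := pullback.snd r V₀.ι
      p := V₀.ι ≫ q ≫ D.p
      open_j := inferInstance
      closed_i := inferInstance
      flat_p := inferInstance
      fp_p := inferInstance
      w := hw' }
  have h1 : T (pullback.snd r V₀.ι) m
      ((restrictD (pullback.fst r V₀.ι ≫ j ≫ pullback.snd D.j e)).obj ((pullbackD e).obj E)) :=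
    test_of_isPseudoCoherentRel h D'
  have hcomm : (pullback.fst r V₀.ι ≫ j ≫ pullback.snd D.j e) ≫ e =
      g₁ ≫ (pullback.fst D.i N.ι ≫ D.j) := by
    rw [← Category.assoc g₁, hg]
    simp only [Category.assoc]
    rw [pullback.condition]
  have h2 : T (pullback.snd r V₀.ι) m ((pullbackD g₁).obj
      ((restrictD (pullback.fst D.i N.ι ≫ D.j)).obj E)) :=
    T_iso ((pullbackDSquare hcomm).app E) h1
  have h3 : T (pullback.snd D.i N.ι) m ((restrictD (pullback.fst D.i N.ι ≫ D.j)).obj E) :=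
    T_of_pullback sq3.flip h2
  -- the point
  obtain ⟨y', hy', hy''⟩ := Scheme.exists_preimage_of_isPullback
    (IsPullback.of_hasPullback r V₀.ι) y ⟨r y, hyV₀⟩ rfl
  refine ⟨D.restr (pullback.fst D.i N.ι) (pullback.snd D.i N.ι) N.ι sqN, g₁ y', ?_, h3⟩
  change (pullback.fst D.i N.ι ≫ D.j) (g₁ y') = e x
  rw [← Scheme.Hom.comp_apply, ← hcomm, Scheme.Hom.comp_apply, Scheme.Hom.comp_apply,
    Scheme.Hom.comp_apply, hy', hy, hx₁']

end K253.EtDesc
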