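import Mathlib.RingTheory.Spectrum.Prime.Topology
import Mathlib.Algebra.Module.Projective
import Mathlib.RingTheory.Ideal.Over
import Mathlib.LinearAlgebra.Basis.VectorSpace

/-!
# Finite projective algebras with full spectrum split as modules
-/

set_option autoImplicit false
universe u

namespace K253.FinSplit

/-- An algebra which is projective as a module and has surjective spectrum is split over the base. -/
theorem exists_retraction {R S : Type u} [CommRing R] [CommRing S] [Algebra R S]
    [Module.Projective R S] (h : Function.Surjective (PrimeSpectrum.comap (algebraMap R S))) :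
    ∃ g : S →ₗ[R] R, g 1 = 1 := by
  let I : Ideal R := LinearMap.range (LinearMap.applyₗ (R := R) (M := S) (M₂ := R) 1)
  by_cases hI : I = ⊤
  · have h1 : (1 : R) ∈ I := by rw [hI]; trivial
    obtain ⟨g, hg⟩ := h1
    exact ⟨g, hg⟩
  · exfalso
    obtain ⟨m, hm, hIm⟩ := Ideal.exists_le_maximal I hI
    obtain ⟨P, hP⟩ := h ⟨m, hm.isPrime⟩
    have hPm : P.asIdeal.comap (algebraMap R S) = m := congrArg PrimeSpectrum.asIdeal hP
    have : P.asIdeal.LiesOver m := ⟨hPm.symm⟩
    let _ : Field (R ⧸ m) := Ideal.Quotient.field m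
    have hinj : Function.Injective (Algebra.linearMap (R ⧸ m) (S ⧸ P.asIdeal)) :=
      (algebraMap (R ⧸ m) (S ⧸ P.asIdeal)).injective
    obtain ⟨t, ht⟩ := LinearMap.exists_leftInverse_of_injective
      (Algebra.linearMap (R ⧸ m) (S ⧸ P.asIdeal)) (LinearMap.ker_eq_bot.2 hinj)
    let q : S →ₗ[R] (R ⧸ m) := (t.restrictScalars R) ∘ₗ (Ideal.Quotient.mkₐ R P.asIdeal).toLinearMap
    obtain ⟨g, hg⟩ := Module.projective_lifting_property
      (Ideal.Quotient.mkₐ R m).toLinearMap q Ideal.Quotient.mk_surjective
    have h1 : Ideal.Quotient.mk m (g 1) = 1 := by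
      have h2 : Ideal.Quotient.mk m (g 1) = q 1 := LinearMap.congr_fun hg 1
      rw [h2]
      have h3 := LinearMap.congr_fun ht 1
      simpa [q] using h3
    have h2 : g 1 ∈ m := hIm ⟨g, rfl⟩
    rw [Ideal.Quotient.eq_zero_iff_mem.2 h2] at h1
    exact hm.ne_top ((Ideal.eq_top_iff_one m).2 (Ideal.Quotient.eq_zero_iff_mem.1
      (by rw [map_one]; exact h1.symm)))

end K253.FinSplit
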