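import Groth.Agent.KSix.K240.RelBasic
import Groth.Agent.Dual.H336.ReflectQC
import Groth.Agent.PerfA.PCohQCoh
import Groth.Agent.S0888

/-!
# Consequences of the chart independence of relative pseudo-coherence

Quasi-coherence of the cohomology sheaves, direct summands, and vanishing.
-/

set_option autoImplicit false
universe u
open CategoryTheory CategoryTheory.Limits AlgebraicGeometry CategoryTheory.Pretriangulated
open Groth.Agent.PerfA Groth.Agent.PerfA.Restrict Groth.Agent.PerfC.PcLocal
open Groth.Agent.PerfC.ClosedImmPc K240.PushTest K240.ChartChange K240.RelData K240.RelChart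
attribute [local instance] HasDerivedCategory.standard

namespace K253.RelPC

variable {X Y : Scheme.{u}} {f : X ⟶ Y}

/-- Cohomology sheaves above `m` are quasi-coherent. -/
theorem isQCoh_HD {m : ℤ} {E : DCoh.D X} (hE : DerSch.IsPseudoCoherentRel f m E) (i : ℤ)
    (hi : m < i) : Coh.IsQCoh (DCoh.HD E i) := by
  have := hE.1
  refine QCohSerre.isQCoh_of_restrict _ fun x => ?_
  obtain ⟨D, w, hw, -, -⟩ := exists_datum f x ⊤ trivial
  refine ⟨D.W, D.j, D.open_j, w, hw, ?_⟩
  have h1 := PCohQCoh.isQCoh_HD_of_isPseudoCoherentD (test_of_isPseudoCoherentRel hE D) i hi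
  have h2 := QCohSerre.isQCoh_of_iso (pushHD D.i ((restrictD D.j).obj E) i) h1
  exact QCohSerre.isQCoh_of_iso (HDrestrict D.j E i)
    (Groth.Agent.Dual.H336.ReflectQC.isQCoh_of_pushforward D.i h2)

/-- Direct summands. -/
theorem of_biprod (m : ℤ) (E K : DCoh.D X) [HasBinaryBiproduct E K]
    (h : DerSch.IsPseudoCoherentRel f m (E ⊞ K)) :
    DerSch.IsPseudoCoherentRel f m E ∧ DerSch.IsPseudoCoherentRel f m K := by
  have := h.1
  have key (D : Datum f) : D.test m E ∧ D.test m K := by
    have h1 := test_of_isPseudoCoherentRel h D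
    have : Functor.Additive (restrictD D.j ⋙ pushD D.i) := inferInstance
    have : PreservesLimitsOfShape (Discrete WalkingPair) (restrictD D.j ⋙ pushD D.i) :=
      inferInstance
    have := preservesBinaryBiproduct_of_preservesBinaryProduct (restrictD D.j ⋙ pushD D.i)
      (X := E) (Y := K)
    have e1 := (restrictD D.j ⋙ pushD D.i).mapBiprod E K
    exact Groth.Agent.S0888.result m _ _ (pc_of_iso e1 h1)
  rw [isPseudoCoherentRel_iff_forall, isPseudoCoherentRel_iff_forall]
  exact ⟨fun D => (key D).1, fun D => (key D).2⟩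

/-- Objects without cohomology in degrees `≥ m`. -/
theorem of_vanish [LocallyOfFiniteType f] {m : ℤ} {K : DCoh.D X}
    (h : ∀ i : ℤ, m ≤ i → IsZero (DCoh.HD K i)) : DerSch.IsPseudoCoherentRel f m K := by
  rw [isPseudoCoherentRel_iff_forall]
  intro D
  refine pc_of_vanish fun i hi => ?_
  refine IsZero.of_iso ?_ (pushHD D.i ((restrictD D.j).obj K) i)
  refine Functor.map_isZero _ (IsZero.of_iso ?_ (HDrestrict D.j K i))
  exact Functor.map_isZero (Scheme.Modules.restrictFunctor D.j) (h i hi)

end K253.RelPC
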