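import Groth.Agent.FlatMor.K252.FinPush
import Groth.Agent.KSix.K240.RelFlat
import Groth.Agent.FlatMor.K253.RelPC
import Groth.Agent.FlatMor.K253.FinSplit
import Groth.Agent.Models2.PerfRetract
import Groth.Agent.S1118
import Groth.Agent.S1054

/-!
# Relative pseudo-coherence descends along finite locally free surjective morphisms of the source
-/

set_option autoImplicit false
universe u
open CategoryTheory CategoryTheory.Limits AlgebraicGeometry CategoryTheory.Pretriangulated
open Groth.Agent Groth.Agent.PerfA Groth.Agent.PerfA.Restrict Groth.Agent.PerfC.PcLocal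
open K240.PushTest K240.ChartChange K240.RelData K240.RelChart
open Groth.Agent.PerfB.FlatPull K240.RelBasic K240.RelFlat
open Groth.Agent.PerfC.DTens Groth.Agent.PerfC.LpullTens Groth.Agent.PerfC.RpushAffine
attribute [local instance] HasDerivedCategory.standard

namespace K253.FinDesc

section Retract

variable {X Y : Scheme.{u}} (f : X ⟶ Y) [IsAffineHom f] [DCoh.HasRpush f] [DCoh.HasLpull f]

/-- If `O_Y` is a retract of `Rf_* O_X`, then `K` is a retract of `Rf_* Lf^* K`. -/
theorem nonempty_retract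
    (r : Retract (DCoh.toD Y (unitCx Y)) ((DCoh.Rpush f).obj (DCoh.toD X (unitCx X))))
    (K : DCoh.D Y) (hK : DCoh.IsQCohD K) :
    Nonempty (Retract K ((DCoh.Rpush f).obj ((DCoh.Lpull f).obj K))) := by
  have hO : DCoh.IsQCohD (DCoh.toD X (unitCx X)) :=
    PerfC.ProjAbs291.isQCohD_of_iso (K240.RelFlat.unitIso X).symm
      (PerfA.QCohD.isQCohD_single _ (PerfA.QCohSerre.isQCoh_unit X) 0)
  have h1 := S1118.isIso_theta_app f _ hO K hK
  let e1 : ((LTX Y).obj ((DCoh.Rpush f).obj (DCoh.toD X (unitCx X)))).obj K ≅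
      (DCoh.Rpush f).obj (((LTX X).obj (DCoh.toD X (unitCx X))).obj ((DCoh.Lpull f).obj K)) :=
    asIso ((theta f (DCoh.toD X (unitCx X))).app K)
  let e2 : (LTX X).obj (DCoh.toD X (unitCx X)) ≅ 𝟭 (DCoh.D X) :=
    (symmIso X).symm.app _ ≪≫ PerfC.LpullTens.unitIso X
  let e3 : (LTX Y).obj (DCoh.toD Y (unitCx Y)) ≅ 𝟭 (DCoh.D Y) :=
    (symmIso Y).symm.app _ ≪≫ PerfC.LpullTens.unitIso Y
  exact ⟨((Retract.ofIso (e3.symm.app K)).trans (r.map ((LTX Y).flip.obj K))).trans
    (Retract.ofIso (e1 ≪≫ (DCoh.Rpush f).mapIso (e2.app _)))⟩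

end Retract

section Spec

variable {R S : CommRingCat.{u}} (φ : R ⟶ S)

/-- The structure sheaf of the base is a retract of the direct image of the structure sheaf, if the ring
map is split. -/
theorem nonempty_retract_unit [DCoh.HasRpush (Spec.map φ)]
    (r : Retract (ModuleCat.of R R) ((ModuleCat.restrictScalars.{u} φ.hom).obj (ModuleCat.of S S))) :
    Nonempty (Retract (DCoh.toD (Spec R) (unitCx (Spec R)))
      ((DCoh.Rpush (Spec.map φ)).obj (DCoh.toD (Spec S) (unitCx (Spec S))))) := by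
  obtain ⟨e⟩ := exists_iso_Rpush_tilde φ
    ((DerivedCategory.singleFunctor (ModuleCat.{u} S) 0).obj (ModuleCat.of S S))
  let e1 : DCoh.toD (Spec R) (unitCx (Spec R)) ≅
      (DerivedCategory.singleFunctor (Spec R).Modules 0).obj
        ((tilde.functor R).obj (ModuleCat.of R R)) :=
    K240.RelFlat.unitIso (Spec R) ≪≫ (DerivedCategory.singleFunctor _ 0).mapIso tildeSelf.symm
  let e2 : DCoh.toD (Spec S) (unitCx (Spec S)) ≅ (tilde.functor S).mapDerivedCategory.obj
      ((DerivedCategory.singleFunctor (ModuleCat.{u} S) 0).obj (ModuleCat.of S S)) :=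
    K240.RelFlat.unitIso (Spec S) ≪≫ (DerivedCategory.singleFunctor _ 0).mapIso tildeSelf.symm ≪≫
      ((tilde.functor S).mapDerivedCategorySingleFunctor 0).symm.app _
  let e3 : (DCoh.Rpush (Spec.map φ)).obj (DCoh.toD (Spec S) (unitCx (Spec S))) ≅
      (DerivedCategory.singleFunctor (Spec R).Modules 0).obj
        ((resTilde φ).obj (ModuleCat.of S S)) :=
    (DCoh.Rpush (Spec.map φ)).mapIso e2 ≪≫ e ≪≫
      ((resTilde φ).mapDerivedCategorySingleFunctor 0).app _
  exact ⟨((Retract.ofIso e1).trans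
    (r.map (tilde.functor R ⋙ DerivedCategory.singleFunctor (Spec R).Modules 0))).trans
    (Retract.ofIso e3.symm)⟩

/-- The module retract. -/
theorem nonempty_retract_module [Flat (Spec.map φ)] [IsFinite (Spec.map φ)]
    [LocallyOfFinitePresentation (Spec.map φ)] [Surjective (Spec.map φ)] :
    Nonempty (Retract (ModuleCat.of R R)
      ((ModuleCat.restrictScalars.{u} φ.hom).obj (ModuleCat.of S S))) := by
  let _ := φ.hom.toAlgebra
  have h1 : Module.Finite R S := (IsFinite.SpecMap_iff φ).1 ‹_›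
  have h2 : Module.Flat R S := (Flat.SpecMap_iff).1 ‹_›
  have h3 : Algebra.FinitePresentation R S := (LocallyOfFinitePresentation.SpecMap_iff φ).1 ‹_›
  have h4 : Module.FinitePresentation R S :=
    Module.FinitePresentation.of_finite_of_finitePresentation _ _
  have h5 : Module.Projective R S := Module.Flat.projective_of_finitePresentation
  obtain ⟨g, hg⟩ := K253.FinSplit.exists_retraction (R := R) (S := S) (Spec.map φ).surjective
  exact ⟨{ i := ModuleCat.ofHom (Y := S) (Algebra.linearMap R S)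
           r := ModuleCat.ofHom (X := S) g
           retract := by
            ext
            change g (algebraMap R S 1) = 1
            rw [map_one, hg] }⟩

/-- The affine case of the descent. -/
theorem spec_case [Flat (Spec.map φ)] [IsFinite (Spec.map φ)]
    [LocallyOfFinitePresentation (Spec.map φ)] [Surjective (Spec.map φ)]
    [DCoh.HasLpull (Spec.map φ)] {T : Scheme.{u}} (p : Spec R ⟶ T) [LocallyOfFiniteType p] (m : ℤ)
    (E : DCoh.D (Spec R)) (hE : DCoh.IsQCohD E)
    (h : DerSch.IsPseudoCoherentRel (Spec.map φ ≫ p) m ((DCoh.Lpull (Spec.map φ)).obj E)) :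
    DerSch.IsPseudoCoherentRel p m E := by
  have i1 := Dcoh.DerSch.hasRpush (Spec.map φ)
  obtain ⟨r⟩ := nonempty_retract_module φ
  obtain ⟨r'⟩ := nonempty_retract_unit φ r
  obtain ⟨r''⟩ := nonempty_retract (Spec.map φ) r' E hE
  obtain ⟨M, ⟨e⟩⟩ := Groth.Agent.Models2.PerfRetract.exists_biprod_iso r''
  have h1 := (K252.FinPush.isPseudoCoherentRel_iff_Rpush (Spec.map φ ≫ p) p (Spec.map φ) rfl m _
    (Groth.Agent.S1054.result (Spec.map φ) E hE)).1 h
  exact (K253.RelPC.of_biprod m E M (isPseudoCoherentRel_of_iso e h1)).1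

end Spec

/-- Relative pseudo-coherence descends along finite locally free surjective morphisms. -/
theorem rel_of_finite_flat {U V T : Scheme.{u}} (ρ : V ⟶ U) [Flat ρ] [IsFinite ρ]
    [LocallyOfFinitePresentation ρ] [Surjective ρ] [DCoh.HasLpull ρ] (p : U ⟶ T)
    [LocallyOfFiniteType p] (m : ℤ) (E : DCoh.D U) (hE : DCoh.IsQCohD E)
    (h : DerSch.IsPseudoCoherentRel (ρ ≫ p) m ((DCoh.Lpull ρ).obj E)) :
    DerSch.IsPseudoCoherentRel p m E := by
  refine isPseudoCoherentRel_of_cover fun x => ?_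
  obtain ⟨U', hU', hx, -⟩ := exists_isAffineOpen_mem_and_subset (x := x) (U := ⊤) trivial
  obtain ⟨z, hz⟩ : x ∈ Set.range hU'.fromSpec := by rw [hU'.range_fromSpec]; exact hx
  refine ⟨_, hU'.fromSpec, inferInstance, z, hz, ?_⟩
  have sq := PerfC.FinitePush.isPullback_fromSpec ρ hU'
  have i1 : Flat (Spec.map (ρ.app U')) := MorphismProperty.of_isPullback sq ‹_›
  have i2 : IsFinite (Spec.map (ρ.app U')) := MorphismProperty.of_isPullback sq ‹_›
  have i3 : LocallyOfFinitePresentation (Spec.map (ρ.app U')) :=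
    MorphismProperty.of_isPullback sq ‹_›
  have i4 : Surjective (Spec.map (ρ.app U')) := MorphismProperty.of_isPullback sq ‹_›
  have i5 := Groth.Agent.Dcoh.DerPull.hasLpull (Spec.map (ρ.app U'))
  have i6 := Dcoh.DerSch.hasRpush ρ
  have i7 := Dcoh.DerSch.hasRpush (Spec.map (ρ.app U'))
  obtain ⟨e⟩ := PerfC.ProjAbs291.nonempty_Lpull sq
  refine spec_case (ρ.app U') (hU'.fromSpec ≫ p) m _
    (PerfC.FinitePush.isQCohD_restrictD hU'.fromSpec hE) ?_
  have h1 := isPseudoCoherentRel_restrict (hU'.preimage ρ).fromSpec h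
  rw [← Category.assoc, sq.w, Category.assoc] at h1
  exact isPseudoCoherentRel_of_iso (e.app E) h1

end K253.FinDesc
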