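import Groth.Agent.FlatMor.K253.FinDesc
import Groth.Agent.FlatMor.K253.EtDesc
import Groth.Agent.FlatMor.K261.TensRel
import Groth.Agent.S7198

/-!
# Relative pseudo-coherence is fppf local on the source
-/

set_option autoImplicit false
universe u
open CategoryTheory CategoryTheory.Limits AlgebraicGeometry CategoryTheory.Pretriangulated
open Groth.Agent Groth.Agent.PerfA Groth.Agent.PerfA.Restrict Groth.Agent.PerfC.PcLocal
open K240.PushTest K240.ChartChange K240.RelData K240.RelChart
open Groth.Agent.PerfB.FlatPull K240.RelBasic K240.RelFlat K240.RelComp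
attribute [local instance] HasDerivedCategory.standard

namespace K253.FppfDesc

/-- Flat morphisms locally of finite presentation are pseudo-coherent. -/
theorem isNPseudoCoherent_of_flat {X Y : Scheme.{u}} (f : X ⟶ Y) [Flat f]
    [LocallyOfFinitePresentation f] (n : ℤ) : DerSch.IsNPseudoCoherent f n :=
  (isPseudoCoherentRel_flat_iff f n _).2
    (pc_of_iso (K240.RelFlat.unitIso X).symm (PerfC.FinitePush.pc_inD_structureModule X n))

/-- Morphisms between flat schemes locally of finite presentation are pseudo-coherent. -/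
theorem isNPseudoCoherent_of_comp {X Y Z : Scheme.{u}} (f : X ⟶ Y) (g : Y ⟶ Z)
    [Flat g] [LocallyOfFinitePresentation g] [Flat (f ≫ g)] [LocallyOfFinitePresentation (f ≫ g)]
    (n : ℤ) : DerSch.IsNPseudoCoherent f n := by
  have : LocallyOfFiniteType f := locallyOfFiniteType_of_comp f g
  exact (isPseudoCoherentRel_comp_iff (f := f) (g := g) (isNPseudoCoherent_of_flat g) n _).2
    (isNPseudoCoherent_of_flat (f ≫ g) n)

/-- Relative pseudo-coherence is fppf local on the source: descent. -/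
theorem at_of_flat {X S Y : Scheme.{u}} (p : X ⟶ S) [LocallyOfFiniteType p] (g : Y ⟶ X) [Flat g]
    [LocallyOfFinitePresentation g] [DCoh.HasLpull g] (m : ℤ) (E : DCoh.D X)
    (hE : DCoh.IsQCohD E) (h : DerSch.IsPseudoCoherentRel (g ≫ p) m ((DCoh.Lpull g).obj E))
    (y : Y) : At p m E (g y) := by
  obtain ⟨U, e, u, V, ρ, r, _, hu, hρ, _, w⟩ := S7198.exists_etale_finLocFree g y
  have i1 : IsFinite ρ := hρ.1
  have i2 : Flat ρ := hρ.2.1
  have i3 : LocallyOfFinitePresentation ρ := hρ.2.2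
  have i4 : Flat (r ≫ g) := by rw [w]; infer_instance
  have i5 : LocallyOfFinitePresentation (r ≫ g) := by rw [w]; infer_instance
  have i6 : LocallyOfFiniteType r := locallyOfFiniteType_of_comp r g
  have j1 := Groth.Agent.Dcoh.DerPull.hasLpull r
  have j2 := Groth.Agent.Dcoh.DerPull.hasLpull ρ
  have j3 := Groth.Agent.Dcoh.DerPull.hasLpull e
  have j4 := Groth.Agent.Dcoh.DerPull.hasLpull (r ≫ g)
  have j5 := Groth.Agent.Dcoh.DerPull.hasLpull (ρ ≫ e)
  have h1 := K261.TensRel.rel_lpull (isNPseudoCoherent_of_comp r g) m _ h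
  rw [← Category.assoc, w, Category.assoc] at h1
  let ε : (DCoh.Lpull r).obj ((DCoh.Lpull g).obj E) ≅ (DCoh.Lpull ρ).obj ((DCoh.Lpull e).obj E) :=
    (Groth.Agent.Dcoh.DerPull.lpullCompIso r g).app E ≪≫
    (Groth.Agent.Dcoh.DerPull.lpullCongr w).app E ≪≫
    (Groth.Agent.Dcoh.DerPull.lpullCompIso ρ e).symm.app E
  have h2 := K253.FinDesc.rel_of_finite_flat ρ (e ≫ p) m _ (S1054.result e E hE)
    (isPseudoCoherentRel_of_iso ε h1)
  rw [← hu]
  exact K253.EtDesc.at_of_etale p e u
    (isPseudoCoherentRel_of_iso ((Groth.Agent.PerfB.FlatPull.lpullIso e).app E) h2)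

/-- Relative pseudo-coherence is fppf local on the source. -/
theorem iff_forall_Lpull {X S : Scheme.{u}} (p : X ⟶ S)
    [LocallyOfFiniteType p] {ι : Type u} (Xi : ι → Scheme.{u}) (g : ∀ i, Xi i ⟶ X) [∀ i, Flat (g i)]
    [∀ i, LocallyOfFinitePresentation (g i)] (hcov : ∀ x : X, ∃ (i : ι) (y : Xi i), g i y = x)
    [∀ i, DCoh.HasLpull (g i)] (m : ℤ) (E : DCoh.D X) (hE : DCoh.IsQCohD E) :
    DerSch.IsPseudoCoherentRel p m E ↔
      ∀ i, DerSch.IsPseudoCoherentRel (g i ≫ p) m ((DCoh.Lpull (g i)).obj E) := by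
  refine ⟨fun h i => K261.TensRel.rel_lpull (isNPseudoCoherent_of_flat (g i)) m E h, fun h => ?_⟩
  refine (isPseudoCoherentRel_iff p m E).2 ⟨inferInstance, fun x => ?_⟩
  obtain ⟨i, y, rfl⟩ := hcov x
  exact at_of_flat p (g i) m E hE (h i) y

end K253.FppfDesc
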