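import Groth.Agent.FlatMor.K253.H1Epi
import Mathlib.RingTheory.Smooth.Basic

/-!
# The map from the kernel of a ring homomorphism to the first homology of its cotangent complex
-/

set_option autoImplicit false
universe u

open TensorProduct

noncomputable section

namespace K253.H1Delta

open K253.H1Map K253.H1Epi Algebra.Extension

section Alg

variable (A B : Type u) [CommRing A] [CommRing B] [Algebra A B]

/-- The standard presentation. -/
abbrev P₁ : Algebra.Extension.{u} A B := (Algebra.Generators.self A B).toExtension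

/-- A kernel element as an element of the kernel of the standard presentation. -/
def cel (a : RingHom.ker (algebraMap A B)) : (P₁ A B).ker :=
  ⟨algebraMap A (P₁ A B).Ring a.1, by
    rw [Algebra.Extension.ker, RingHom.mem_ker, ← IsScalarTower.algebraMap_apply]
    exact a.2⟩

/-- The map `ker(A → B) → H_1(L_{B/A})`. -/
def delta : RingHom.ker (algebraMap A B) →ₗ[A] Algebra.H1Cotangent A B where
  toFun a := ⟨Cotangent.mk (cel A B a), by
    rw [LinearMap.mem_ker, cotangentComplex_mk]
    change (1 : B) ⊗ₜ[(P₁ A B).Ring] KaehlerDifferential.D A _ (algebraMap A (P₁ A B).Ring a.1) = 0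
    rw [Derivation.map_algebraMap, TensorProduct.tmul_zero]⟩
  map_add' a b := by
    refine Subtype.ext ?_
    change Cotangent.mk (cel A B (a + b)) = Cotangent.mk (cel A B a) + Cotangent.mk (cel A B b)
    rw [← map_add]
    congr 1
    refine Subtype.ext ?_
    exact map_add (algebraMap A (P₁ A B).Ring) a.1 b.1
  map_smul' r a := by
    refine Subtype.ext ?_
    change Cotangent.mk (cel A B (r • a)) = r • Cotangent.mk (cel A B a)
    have h1 : cel A B (r • a) = algebraMap A (P₁ A B).Ring r • cel A B a := by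
      refine Subtype.ext ?_
      exact map_mul (algebraMap A (P₁ A B).Ring) r a.1
    rw [h1, map_smul, algebraMap_smul]

lemma delta_val (a : RingHom.ker (algebraMap A B)) :
    (delta A B a).1 = Cotangent.mk (cel A B a) := rfl

variable {A B}

/-- For a surjection, the comparison with the extension given by the surjection itself. -/
lemma exists_extension (h : Function.Surjective (algebraMap A B)) :
    ∃ (P₀ : Algebra.Extension.{u} A B) (f : P₀.Hom (P₁ A B)) (e : A ≃+* P₀.Ring),
      (∀ a, algebraMap P₀.Ring B (e a) = algebraMap A B a) ∧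
      (∀ a, f.toRingHom (e a) = algebraMap A (P₁ A B).Ring a) ∧
      Function.Bijective (H1Cotangent.map f) ∧ Function.Bijective P₀.h1Cotangentι := by
  let P₀ : Algebra.Extension.{u} A B := .ofSurjective (Algebra.ofId A B) h
  let f : P₀.Hom (P₁ A B) :=
    { toRingHom := algebraMap A (P₁ A B).Ring
      toRingHom_algebraMap := fun x => rfl
      algebraMap_toRingHom := fun x => (IsScalarTower.algebraMap_apply A (P₁ A B).Ring B x).symm }
  have i1 : Algebra.FormallySmooth A P₀.Ring := inferInstanceAs (Algebra.FormallySmooth A A)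
  have i2 : Algebra.FormallySmooth A (P₁ A B).Ring :=
    inferInstanceAs (Algebra.FormallySmooth A (MvPolynomial B A))
  refine ⟨P₀, f, RingEquiv.refl A, fun a => rfl, fun a => rfl, ?_, ?_⟩
  · have h1 := (H1Cotangent.equivOfFormallySmooth P₀ (P₁ A B)).bijective
    have h2 : (H1Cotangent.equivOfFormallySmooth P₀ (P₁ A B) : P₀.H1Cotangent → _) =
        H1Cotangent.map f := by
      funext x
      exact H1Cotangent.equivOfFormallySmooth_apply f x
    rwa [h2] at h1
  · refine ⟨fun x y hxy => h1Cotangentι_ext x y hxy, fun x => ?_⟩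
    refine ⟨⟨x, ?_⟩, rfl⟩
    rw [LinearMap.mem_ker]
    have : Subsingleton P₀.CotangentSpace := by
      have : Subsingleton (Ω[P₀.Ring⁄A]) := inferInstanceAs (Subsingleton (Ω[A⁄A]))
      exact inferInstanceAs (Subsingleton (B ⊗[P₀.Ring] Ω[P₀.Ring⁄A]))
    exact Subsingleton.elim _ _

theorem delta_surjective (h : Function.Surjective (algebraMap A B)) :
    Function.Surjective (delta A B) := by
  obtain ⟨P₀, f, e, h1, h2, h3, h4⟩ := exists_extension h
  intro y
  obtain ⟨x, rfl⟩ := h3.2 y
  obtain ⟨⟨p, hp⟩, hp'⟩ := Cotangent.mk_surjective x.1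
  obtain ⟨a, rfl⟩ := e.surjective p
  refine ⟨⟨a, ?_⟩, ?_⟩
  · rw [RingHom.mem_ker, ← h1]
    exact hp
  · refine Subtype.ext ?_
    change Cotangent.mk _ = Cotangent.map f x.1
    rw [← hp', Cotangent.map_mk]
    congr 1
    refine Subtype.ext ?_
    exact (h2 a).symm

theorem mem_of_delta_eq_zero (h : Function.Surjective (algebraMap A B))
    (a : RingHom.ker (algebraMap A B)) (ha : delta A B a = 0) :
    a.1 ∈ RingHom.ker (algebraMap A B) ^ 2 := by
  obtain ⟨P₀, f, e, h1, h2, h3, h4⟩ := exists_extension h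
  have hk (b : A) : e b ∈ P₀.ker ↔ b ∈ RingHom.ker (algebraMap A B) := by
    rw [Algebra.Extension.ker, RingHom.mem_ker, h1, RingHom.mem_ker]
  let p : P₀.ker := ⟨e a.1, (hk _).2 a.2⟩
  obtain ⟨x, hx⟩ := h4.2 (Cotangent.mk p)
  have hx' : x.1 = Cotangent.mk p := hx
  have h5 : H1Cotangent.map f x = delta A B a := by
    refine Subtype.ext ?_
    change Cotangent.map f x.1 = Cotangent.mk _
    rw [hx', Cotangent.map_mk]
    congr 1
    refine Subtype.ext ?_
    exact h2 a.1
  rw [ha] at h5
  have h6 : x = 0 := h3.1 (h5.trans (map_zero _).symm)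
  rw [h6] at hx'
  have h7 : Cotangent.mk p = 0 := hx'.symm
  rw [Cotangent.mk_eq_zero_iff] at h7
  have h8 : P₀.ker = (RingHom.ker (algebraMap A B)).comap (e.symm : P₀.Ring →+* A) := by
    ext q
    obtain ⟨b, rfl⟩ := e.surjective q
    rw [hk, Ideal.mem_comap]
    simp
  have h9 : P₀.ker ^ 2 = (RingHom.ker (algebraMap A B) ^ 2).comap (e.symm : P₀.Ring →+* A) := by
    have h10 : ∀ J : Ideal A, J.comap (e.symm : P₀.Ring →+* A) = J.map (e : A →+* P₀.Ring) :=
      fun J => Ideal.comap_symm e
    rw [h8, h10, h10, Ideal.map_pow]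
  rw [h9, Ideal.mem_comap] at h7
  simpa [p] using h7

/-- Base change criterion along a surjection. -/
theorem isBaseChange_of_surjective {N N' : Type*} [AddCommGroup N] [Module A N]
    [AddCommGroup N'] [Module A N'] [Module B N'] [IsScalarTower A B N']
    (h : Function.Surjective (algebraMap A B)) (g : N →ₗ[A] N') (hg : Function.Surjective g)
    (hk : ∀ n, g n = 0 → n ∈ (RingHom.ker (algebraMap A B)) • (⊤ : Submodule A N)) :
    IsBaseChange B g := by
  have hs : ∀ t : B ⊗[A] N, ∃ n : N, (1 : B) ⊗ₜ[A] n = t := by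
    intro t
    induction t with
    | zero => exact ⟨0, TensorProduct.tmul_zero _ _⟩
    | add a b ha hb =>
      obtain ⟨x, rfl⟩ := ha
      obtain ⟨y, rfl⟩ := hb
      exact ⟨x + y, TensorProduct.tmul_add _ _ _⟩
    | tmul b x =>
      obtain ⟨a, rfl⟩ := h b
      refine ⟨a • x, ?_⟩
      rw [← TensorProduct.smul_tmul, Algebra.algebraMap_eq_smul_one]
  suffices H : Function.Bijective (LinearMap.liftBaseChange B g) from H
  constructor
  · rw [injective_iff_map_eq_zero]
    intro t ht
    obtain ⟨n, rfl⟩ := hs t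
    rw [LinearMap.liftBaseChange_tmul, one_smul] at ht
    have h1 := hk n ht
    refine Submodule.smul_induction_on h1 (p := fun n => (1 : B) ⊗ₜ[A] n = 0) ?_ ?_
    · intro r hr m _
      rw [← TensorProduct.smul_tmul, ← Algebra.algebraMap_eq_smul_one,
        (RingHom.mem_ker).1 hr, TensorProduct.zero_tmul]
    · intro x y hx hy
      rw [TensorProduct.tmul_add, hx, hy, add_zero]
  · intro y
    obtain ⟨n, rfl⟩ := hg y
    exact ⟨1 ⊗ₜ n, by rw [LinearMap.liftBaseChange_tmul, one_smul]⟩

theorem isBaseChange_delta (h : Function.Surjective (algebraMap A B)) :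
    IsBaseChange B (delta A B) := by
  refine isBaseChange_of_surjective h _ (delta_surjective h) fun a ha => ?_
  rw [Submodule.mem_smul_top_iff, smul_eq_mul, ← sq]
  exact mem_of_delta_eq_zero h a ha

/-- A lift between two base changes is bijective. -/
theorem lift_bijective {M N Q : Type*} [AddCommGroup M] [Module A M] [AddCommGroup N] [Module A N]
    [Module B N] [IsScalarTower A B N] [AddCommGroup Q] [Module A Q] [Module B Q]
    [IsScalarTower A B Q] {f : M →ₗ[A] N} (hf : IsBaseChange B f) {g : M →ₗ[A] Q}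
    (hg : IsBaseChange B g) : Function.Bijective (hf.lift g) := by
  have h1 : (hf.lift g) ∘ₗ hf.equiv.toLinearMap = hg.equiv.toLinearMap := by
    refine TensorProduct.AlgebraTensorModule.ext fun b m => ?_
    rw [LinearMap.comp_apply, LinearEquiv.coe_coe, LinearEquiv.coe_coe, hf.equiv_tmul,
      hg.equiv_tmul, map_smul, hf.lift_eq]
  have h2 : ((hf.lift g : N → Q) ∘ hf.equiv) = hg.equiv := by
    funext t
    exact LinearMap.congr_fun h1 t
  have h3 : Function.Bijective ((hf.lift g : N → Q) ∘ hf.equiv) := by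
    rw [h2]; exact hg.equiv.bijective
  exact (Function.Bijective.of_comp_iff _ hf.equiv.bijective).1 h3

end Alg

section Hom

variable {A A' B B' : Type u} [CommRing A] [CommRing A'] [CommRing B] [CommRing B']

/-- The map `ker φ → H_1(φ)`. -/
def deltaH (φ : A →+* B) : RingHom.ker φ →+ H1 φ :=
  letI := φ.toAlgebra
  (delta A B).toAddMonoidHom

theorem h1map_deltaH (φ : A →+* B) (φ' : A' →+* B') (a : A →+* A') (b : B →+* B')
    (h : b.comp φ = φ'.comp a) (x : A) (hx : x ∈ RingHom.ker φ) (hx' : a x ∈ RingHom.ker φ') :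
    h1map φ φ' a b h (deltaH φ ⟨x, hx⟩) = deltaH φ' ⟨a x, hx'⟩ := by
  let := φ.toAlgebra
  let := φ'.toAlgebra
  let := (b.comp φ).toAlgebra
  let := a.toAlgebra
  let := b.toAlgebra
  have : IsScalarTower A A' B' := IsScalarTower.of_algebraMap_eq' h
  have : IsScalarTower A B B' := IsScalarTower.of_algebraMap_eq' rfl
  refine Subtype.ext ?_
  change Cotangent.map _ (Cotangent.mk (cel A B ⟨x, hx⟩)) = Cotangent.mk (cel A' B' ⟨a x, hx'⟩)
  rw [Cotangent.map_mk]
  congr 1
  refine Subtype.ext ?_
  exact Hom.toRingHom_algebraMap _ x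

end Hom

end K253.H1Delta
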