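import Groth.Agent.FlatMor.K253.H1Map
import Mathlib.Algebra.Category.Ring.Epi
import Mathlib.RingTheory.RingHom.Flat

/-!
# Invariance of the first homology of the cotangent complex under flat epimorphisms of the source
-/

set_option autoImplicit false
universe u

open TensorProduct

noncomputable section

namespace K253.H1Epi

open K253.H1Map

section

variable {A A' B : Type u} [CommRing A] [CommRing A'] [CommRing B] [Algebra A A'] [Algebra A B]
  (β : A' →ₐ[A] B) [Algebra.IsEpi A A']

include β

lemma tmul_one_eq (a' : A') : a' ⊗ₜ[A] (1 : B) = 1 ⊗ₜ[A] β a' := by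
  have h := (Algebra.isEpi_iff_forall_one_tmul_eq A A').1 inferInstance a'
  have := congrArg (TensorProduct.map LinearMap.id β.toLinearMap) h
  simpa using this.symm

/-- `N → A' ⊗_A N` is bijective for `B`-modules `N`. -/
lemma mk_bijective (N : Type u) [AddCommGroup N] [Module A N] [Module B N] [IsScalarTower A B N] :
    Function.Bijective (fun x : N => (1 : A') ⊗ₜ[A] x) := by
  constructor
  · let L : A' ⊗[A] N →ₗ[A] N := TensorProduct.lift
      ((LinearMap.lsmul B N).restrictScalars₁₂ A A ∘ₗ β.toLinearMap)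
    intro x y h
    have := congrArg L h
    simpa [L] using this
  · intro t
    induction t with
    | zero => exact ⟨0, TensorProduct.tmul_zero _ _⟩
    | add a b ha hb =>
      obtain ⟨x, rfl⟩ := ha
      obtain ⟨y, rfl⟩ := hb
      exact ⟨x + y, TensorProduct.tmul_add _ _ _⟩
    | tmul a' x =>
      refine ⟨β a' • x, ?_⟩
      let L : A' ⊗[A] B →ₗ[A] A' ⊗[A] N :=
        ((LinearMap.toSpanSingleton B N x).restrictScalars A).lTensor A'
      have := congrArg L (tmul_one_eq β a')
      simpa [L] using this.symm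

/-- The multiplication `A' ⊗_A B ≃ B`. -/
def mulEquiv : B ≃+* A' ⊗[A] B :=
  RingEquiv.ofBijective (Algebra.TensorProduct.includeRight : B →ₐ[A] A' ⊗[A] B).toRingHom
    (mk_bijective β B)

end

variable {A A' B B' : Type u} [CommRing A] [CommRing A'] [CommRing B] [CommRing B']

lemma exists_eq_toAlgebra [i : Algebra A B] : ∃ φ : A →+* B, i = φ.toAlgebra :=
  ⟨@algebraMap A B _ _ i, Algebra.algebra_ext i (@algebraMap A B _ _ i).toAlgebra fun _ => rfl⟩

/-- Comparison of `Algebra.H1Cotangent.map` and `h1map`. -/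
theorem bijective_iff [iAB : Algebra A B] [iAA' : Algebra A A'] [iA'B' : Algebra A' B']
    [iBB' : Algebra B B'] [iAB' : Algebra A B'] [t1 : IsScalarTower A A' B']
    [t2 : IsScalarTower A B B']
    (h : (algebraMap B B').comp (algebraMap A B) = (algebraMap A' B').comp (algebraMap A A')) :
    Function.Bijective (Algebra.H1Cotangent.map A A' B B') ↔
      Function.Bijective (h1map (algebraMap A B) (algebraMap A' B') (algebraMap A A')
        (algebraMap B B') h) := by
  obtain ⟨φ, rfl⟩ := exists_eq_toAlgebra (i := iAB)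
  obtain ⟨a, rfl⟩ := exists_eq_toAlgebra (i := iAA')
  obtain ⟨φ', rfl⟩ := exists_eq_toAlgebra (i := iA'B')
  obtain ⟨b, rfl⟩ := exists_eq_toAlgebra (i := iBB')
  obtain ⟨c, rfl⟩ := exists_eq_toAlgebra (i := iAB')
  let := φ.toAlgebra
  let := b.toAlgebra
  let := c.toAlgebra
  have hc : c = b.comp φ := IsScalarTower.algebraMap_eq A B B'
  subst hc
  exact Iff.rfl

/-- The map on `H_1` of a flat epimorphism on the source. -/
theorem bijective_aux [Algebra A A'] [Algebra A B] [Module.Flat A A'] [Algebra.IsEpi A A']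
    (β : A' →ₐ[A] B) (h : (Algebra.TensorProduct.includeRight : B →ₐ[A] A' ⊗[A] B).toRingHom.comp
      (algebraMap A B) = (Algebra.TensorProduct.includeLeftRingHom :
      A' →+* A' ⊗[A] B).comp (algebraMap A A')) :
    Function.Bijective (h1map (algebraMap A B) (Algebra.TensorProduct.includeLeftRingHom :
      A' →+* A' ⊗[A] B) (algebraMap A A')
      (Algebra.TensorProduct.includeRight : B →ₐ[A] A' ⊗[A] B).toRingHom h) := by
  have h1 := mk_bijective β (Algebra.H1Cotangent A B)
  let : Algebra B (A' ⊗[A] B) := Algebra.TensorProduct.rightAlgebra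
  have h2 := (Algebra.tensorH1CotangentOfFlat A B A').bijective.comp h1
  have h3 : (Algebra.tensorH1CotangentOfFlat A B A') ∘ (fun x => (1 : A') ⊗ₜ[A] x) =
      Algebra.H1Cotangent.map A A' B (A' ⊗[A] B) := by
    funext x
    rw [Function.comp_apply, Algebra.tensorH1CotangentOfFlat_tmul, one_smul]
  rw [h3] at h2
  exact (bijective_iff h).1 h2

/-- Flat epimorphisms `A → A'` with `B ≃ B'`: the map `H_1(A → B) → H_1(A' → B')` is bijective. -/
theorem bijective (φ : A →+* B) (φ' : A' →+* B') (a : A →+* A') (b : B →+* B')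
    (h : b.comp φ = φ'.comp a) (hb : Function.Bijective b) (hf : a.Flat)
    (he : CategoryTheory.Epi (CommRingCat.ofHom a)) :
    Function.Bijective (h1map φ φ' a b h) := by
  let := φ.toAlgebra
  let := a.toAlgebra
  have : Algebra.IsEpi A A' := CommRingCat.epi_iff_epi.1 he
  have : Module.Flat A A' := hf
  let e : B ≃+* B' := RingEquiv.ofBijective b hb
  let β : A' →ₐ[A] B :=
    { (e.symm : B' →+* B).comp φ' with
      commutes' := fun r => by
        change e.symm (φ' (a r)) = φ r
        rw [← RingHom.comp_apply, ← h]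
        exact e.symm_apply_apply _ }
  have hβ (a' : A') : b (β a') = φ' a' := e.apply_symm_apply _
  have h1 : (Algebra.TensorProduct.includeRight : B →ₐ[A] A' ⊗[A] B).toRingHom.comp φ =
      (Algebra.TensorProduct.includeLeftRingHom : A' →+* A' ⊗[A] B).comp a := by
    ext r
    change (1 : A') ⊗ₜ[A] algebraMap A B r = algebraMap A A' r ⊗ₜ[A] 1
    rw [Algebra.algebraMap_eq_smul_one, Algebra.algebraMap_eq_smul_one, TensorProduct.tmul_smul,
      TensorProduct.smul_tmul']
  have h2 := bijective_aux β h1
  let μ := mulEquiv β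
  -- `T → B'` and its inverse
  let t : A' ⊗[A] B →+* B' := b.comp (μ.symm : A' ⊗[A] B →+* B)
  let t' : B' →+* A' ⊗[A] B := (μ : B →+* A' ⊗[A] B).comp (e.symm : B' →+* B)
  have hμ (x : B) : μ x = 1 ⊗ₜ x := rfl
  have ht (a' : A') : t (a' ⊗ₜ 1) = φ' a' := by
    change b (μ.symm (a' ⊗ₜ 1)) = _
    rw [tmul_one_eq β, ← hμ, μ.symm_apply_apply, hβ]
  have h3 : t.comp (Algebra.TensorProduct.includeLeftRingHom : A' →+* A' ⊗[A] B) =
      φ'.comp (RingHom.id A') := by
    ext a'
    exact ht a'
  have h4 : t'.comp t = RingHom.id _ := by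
    ext x
    · change μ (e.symm (e (μ.symm _))) = _
      rw [e.symm_apply_apply, μ.apply_symm_apply]; rfl
    · change μ (e.symm (e (μ.symm _))) = _
      rw [e.symm_apply_apply, μ.apply_symm_apply]; rfl
  have h5 : t.comp t' = RingHom.id _ := by
    ext x
    change e (μ.symm (μ (e.symm x))) = x
    rw [μ.symm_apply_apply, e.apply_symm_apply]
  have h6 : t'.comp φ' = (Algebra.TensorProduct.includeLeftRingHom : A' →+* A' ⊗[A] B).comp
      (RingHom.id A') := by
    rw [RingHom.comp_id]
    have : t'.comp (t.comp (Algebra.TensorProduct.includeLeftRingHom : A' →+* A' ⊗[A] B)) =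
      t'.comp φ' := by rw [h3, RingHom.comp_id]
    rw [← this, ← RingHom.comp_assoc, h4, RingHom.id_comp]
  have h7 := h1map_bijective_of_inverse _ φ' (RingHom.id A') t h3 (RingHom.id A') t' h6
    (RingHom.id_comp _) (RingHom.id_comp _) h4 h5
  have h8 : Function.Bijective ((h1map _ φ' (RingHom.id A') t h3) ∘ (h1map φ _ a _ h1)) :=
    h7.comp h2
  have h9 : (h1map _ φ' (RingHom.id A') t h3) ∘ (h1map φ _ a _ h1) = h1map φ φ' a b h := by
    funext x
    rw [Function.comp_apply, h1map_comp]
    congr 1
    refine h1map_congr _ (RingHom.id_comp _) ?_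
    ext x
    change b (μ.symm (μ x)) = b x
    rw [μ.symm_apply_apply]
  rwa [h9] at h8

end K253.H1Epi
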