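import Mathlib.RingTheory.Etale.Kaehler
import Mathlib.RingTheory.Extension.Cotangent.BaseChange
import Mathlib.Algebra.Algebra.Epi

/-!
# First homology of the naive cotangent complex for ring homomorphisms

`H1 φ` is `H_1(NL_φ)` for a ring homomorphism `φ`; `h1map` its functoriality for commutative squares.
Localization of the target, and invariance under flat epimorphisms of the source.
-/

set_option autoImplicit false
universe u

open TensorProduct

noncomputable section

namespace K253.H1Map

variable {A A' A'' B B' B'' : Type u} [CommRing A] [CommRing A'] [CommRing A''] [CommRing B]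
  [CommRing B'] [CommRing B'']

/-- `H_1` of the naive cotangent complex of a ring homomorphism. -/
abbrev H1 (φ : A →+* B) : Type u :=
  letI := φ.toAlgebra
  Algebra.H1Cotangent A B

/-- The map on `H_1` of a commutative square. -/
def h1map (φ : A →+* B) (φ' : A' →+* B') (a : A →+* A') (b : B →+* B')
    (h : b.comp φ = φ'.comp a) : H1 φ →+ H1 φ' :=
  letI := φ.toAlgebra
  letI := φ'.toAlgebra
  letI := (b.comp φ).toAlgebra
  letI := a.toAlgebra
  letI := b.toAlgebra
  haveI : IsScalarTower A A' B' := IsScalarTower.of_algebraMap_eq' h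
  haveI : IsScalarTower A B B' := IsScalarTower.of_algebraMap_eq' rfl
  (Algebra.H1Cotangent.map A A' B B').toAddMonoidHom

lemma h1map_congr {φ : A →+* B} {φ' : A' →+* B'} {a a' : A →+* A'} {b b' : B →+* B'}
    (h : b.comp φ = φ'.comp a) (ha : a = a') (hb : b = b') :
    h1map φ φ' a b h = h1map φ φ' a' b' (by rw [← ha, ← hb, h]) := by
  subst ha hb; rfl

lemma h1map_smul (φ : A →+* B) (φ' : A' →+* B') (a : A →+* A') (b : B →+* B')
    (h : b.comp φ = φ'.comp a) (s : B) (x : H1 φ) :
    h1map φ φ' a b h (s • x) = b s • h1map φ φ' a b h x := by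
  let := φ.toAlgebra
  let := φ'.toAlgebra
  let := (b.comp φ).toAlgebra
  let := a.toAlgebra
  let := b.toAlgebra
  have : IsScalarTower A A' B' := IsScalarTower.of_algebraMap_eq' h
  have : IsScalarTower A B B' := IsScalarTower.of_algebraMap_eq' rfl
  refine ((Algebra.H1Cotangent.map A A' B B').map_smul s x).trans ?_
  exact (algebraMap_smul B' s (Algebra.H1Cotangent.map A A' B B' x)).symm

lemma h1map_id (φ : A →+* B) (h : (RingHom.id B).comp φ = φ.comp (RingHom.id A)) (x : H1 φ) :
    h1map φ φ (RingHom.id A) (RingHom.id B) h x = x := by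
  let := φ.toAlgebra
  have h1 := LinearMap.congr_fun ((Algebra.Extension.H1Cotangent.map_eq
    (Algebra.Generators.defaultHom (Algebra.Generators.self A B)
      (Algebra.Generators.self A B)).toExtensionHom (.id _)).trans
    Algebra.Extension.H1Cotangent.map_id) x
  exact h1

lemma h1map_comp (φ : A →+* B) (φ' : A' →+* B') (φ'' : A'' →+* B'') (a : A →+* A') (b : B →+* B')
    (h : b.comp φ = φ'.comp a) (a' : A' →+* A'') (b' : B' →+* B'')
    (h' : b'.comp φ' = φ''.comp a') (x : H1 φ) :
    h1map φ' φ'' a' b' h' (h1map φ φ' a b h x) = h1map φ φ'' (a'.comp a) (b'.comp b)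
      (by rw [RingHom.comp_assoc, h, ← RingHom.comp_assoc, h', RingHom.comp_assoc]) x := by
  let := φ.toAlgebra
  let := φ'.toAlgebra
  let := φ''.toAlgebra
  let := (b.comp φ).toAlgebra
  let := (b'.comp φ').toAlgebra
  let := ((b'.comp b).comp φ).toAlgebra
  let := a.toAlgebra
  let := b.toAlgebra
  let := a'.toAlgebra
  let := b'.toAlgebra
  let := (a'.comp a).toAlgebra
  let := (b'.comp b).toAlgebra
  have : IsScalarTower A A' B' := IsScalarTower.of_algebraMap_eq' h
  have : IsScalarTower A B B' := IsScalarTower.of_algebraMap_eq' rfl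
  have : IsScalarTower A' A'' B'' := IsScalarTower.of_algebraMap_eq' h'
  have : IsScalarTower A' B' B'' := IsScalarTower.of_algebraMap_eq' rfl
  have : IsScalarTower A A'' B'' := IsScalarTower.of_algebraMap_eq'
    (show (b'.comp b).comp φ = φ''.comp (a'.comp a) by
      rw [RingHom.comp_assoc, h, ← RingHom.comp_assoc, h', RingHom.comp_assoc])
  have : IsScalarTower A B B'' := IsScalarTower.of_algebraMap_eq' rfl
  have : IsScalarTower A A' A'' := IsScalarTower.of_algebraMap_eq' rfl
  have : IsScalarTower B B' B'' := IsScalarTower.of_algebraMap_eq' rfl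
  exact (Algebra.Extension.H1Cotangent.map_comp_apply
    (Algebra.Generators.defaultHom (Algebra.Generators.self A B)
      (Algebra.Generators.self A' B')).toExtensionHom
    (Algebra.Generators.defaultHom (Algebra.Generators.self A' B')
      (Algebra.Generators.self A'' B'')).toExtensionHom x).symm.trans
    (LinearMap.congr_fun (Algebra.Extension.H1Cotangent.map_eq _ _) x)

/-- Isomorphic squares. -/
lemma h1map_bijective_of_inverse (φ : A →+* B) (φ' : A' →+* B') (a : A →+* A') (b : B →+* B')
    (h : b.comp φ = φ'.comp a) (a' : A' →+* A) (b' : B' →+* B)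
    (h' : b'.comp φ' = φ.comp a') (h1 : a'.comp a = RingHom.id A) (h2 : a.comp a' = RingHom.id A')
    (h3 : b'.comp b = RingHom.id B) (h4 : b.comp b' = RingHom.id B') :
    Function.Bijective (h1map φ φ' a b h) := by
  refine Function.bijective_iff_has_inverse.2 ⟨h1map φ' φ a' b' h', fun x => ?_, fun x => ?_⟩
  · rw [h1map_comp, h1map_congr _ h1 h3, h1map_id]
  · rw [h1map_comp, h1map_congr _ h2 h4, h1map_id]

section Loc

variable (φ : A →+* B) (φ' : A →+* B') (b : B →+* B') (h : b.comp φ = φ'.comp (RingHom.id A)) (g : B)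
  (hb : let := b.toAlgebra; IsLocalization.Away g B')

include hb

lemma isLocalized : let := b.toAlgebra
    IsLocalizedModule (.powers g) ((show H1 φ →ₗ[B] H1 φ' from
      { toFun := h1map φ φ' (RingHom.id A) b h
        map_add' := map_add _
        map_smul' := h1map_smul φ φ' (RingHom.id A) b h })) := by
  let := φ.toAlgebra
  let := b.toAlgebra
  obtain rfl : φ' = b.comp φ := h.symm
  let := (b.comp φ).toAlgebra
  have : IsScalarTower A B B' := IsScalarTower.of_algebraMap_eq' rfl
  have : IsLocalization.Away g B' := hb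
  exact Algebra.H1Cotangent.isLocalizedModule A B' (.powers g)

lemma loc_inj (x : H1 φ) (hx : h1map φ φ' (RingHom.id A) b h x = 0) : ∃ n : ℕ, g ^ n • x = 0 := by
  let := b.toAlgebra
  let L : H1 φ →ₗ[B] H1 φ' :=
    { toFun := h1map φ φ' (RingHom.id A) b h
      map_add' := map_add _
      map_smul' := h1map_smul φ φ' (RingHom.id A) b h }
  have : IsLocalizedModule (.powers g) L := isLocalized φ φ' b h g hb
  obtain ⟨⟨_, n, rfl⟩, hn⟩ := (IsLocalizedModule.eq_zero_iff (.powers g) L).1 hx
  exact ⟨n, hn⟩

lemma loc_surj (y : H1 φ') : ∃ (n : ℕ) (x : H1 φ), h1map φ φ' (RingHom.id A) b h x = b g ^ n • y := by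
  let := b.toAlgebra
  have := isLocalized φ φ' b h g hb
  obtain ⟨⟨x, ⟨_, n, rfl⟩⟩, hx⟩ := IsLocalizedModule.surj (.powers g) (show H1 φ →ₗ[B] H1 φ' from
      { toFun := h1map φ φ' (RingHom.id A) b h
        map_add' := map_add _
        map_smul' := h1map_smul φ φ' (RingHom.id A) b h }) y
  refine ⟨n, x, hx.symm.trans ?_⟩
  rw [← map_pow]
  rfl

end Loc

end K253.H1Map
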