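import Groth.Agent.FlatMor.K253.H1Chart
import Groth.Agent.CohqA.AffSec
import Groth.Agent.PerfA.QCohSerre

/-!
# The sheaf `H^{-1}(NL_{X/Y})` is quasi-coherent
-/

set_option autoImplicit false
universe u

open CategoryTheory TopologicalSpace Opposite AlgebraicGeometry

noncomputable section

namespace K253.H1QCoh

open K253.H1Map K253.PairSys K253.ChartSys K253.H1Chart

variable {X Y : Scheme.{u}} {f : X ⟶ Y}

/-- Modules carrying the data of the sheaf `H^{-1}(NL_{X/Y})` are quasi-coherent. -/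
theorem isQCoh {F : X.Modules} (D : NLCx.H1Sheaf f F) : Coh.IsQCoh F := by
  refine Groth.Agent.PerfA.QCohSerre.isQCoh_of_restrict F fun x => ?_
  obtain ⟨_, ⟨V, hV, rfl⟩, hxV, -⟩ := Y.isBasis_affineOpens.exists_subset_of_mem_open
    (Set.mem_univ (f x)) isOpen_univ
  obtain ⟨_, ⟨U, hU, rfl⟩, hxU, hUV⟩ := X.isBasis_affineOpens.exists_subset_of_mem_open
    (a := x) (u := (f ⁻¹ᵁ V : X.Opens)) hxV (Opens.isOpen _)
  have hx : x ∈ Set.range hU.fromSpec := by
    have : hU.fromSpec.opensRange = U := hU.opensRange_fromSpec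
    rw [← Scheme.Hom.coe_opensRange, this]
    exact hxU
  obtain ⟨y, hy⟩ := hx
  refine ⟨_, hU.fromSpec, inferInstance, y, hy, ?_⟩
  let U' : X.affineOpens := ⟨U, hU⟩
  let V' : Y.affineOpens := ⟨V, hV⟩
  have e : (U' : X.Opens) ≤ f ⁻¹ᵁ (V' : Y.Opens) := hUV
  refine Groth.Agent.CohqA.AffSec.isQCoh_restrict_fromSpec_of_loc F hU (fun g s hs => ?_)
    fun g t => ?_
  · have h1 := D.map_res (U := U') (V := V') (U' := X.affineBasicOpen (U := U') g) (V' := V') e
      ((X.basicOpen_le g).trans e) (X.basicOpen_le g) le_rfl s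
    have h2 : (F.val.map (homOfLE (X.basicOpen_le g)).op s) = 0 := hs
    have h3 : NLCx.chartRes (U' := X.affineBasicOpen (U := U') g) e ((X.basicOpen_le g).trans e)
      (X.basicOpen_le g) le_rfl (D.iso U' V' e s) = 0 := by
      rw [← h1]
      refine (congrArg _ h2).trans (map_zero _)
    obtain ⟨n, hn⟩ := (sys f).loc_inj e g _ h3
    refine ⟨n, (D.iso U' V' e).injective ?_⟩
    exact ((D.map_smul U' V' e (g ^ n) s).trans hn).trans (map_zero (D.iso U' V' e)).symm
  · let W : X.affineOpens := X.affineBasicOpen (U := U') g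
    have e' : (W : X.Opens) ≤ f ⁻¹ᵁ (V' : Y.Opens) := (X.basicOpen_le g).trans e
    obtain ⟨n, m, hm⟩ := (sys f).loc_surj e g (D.iso W V' e' t)
    refine ⟨n, (D.iso U' V' e).symm m, (D.iso W V' e').injective ?_⟩
    have h1 := D.map_res (U := U') (V := V') (U' := W) (V' := V') e e' (X.basicOpen_le g) le_rfl
      ((D.iso U' V' e).symm m)
    rw [AddEquiv.apply_symm_apply] at h1
    refine h1.trans (hm.trans ?_)
    symm
    refine (D.map_smul W V' e' _ t).trans ?_
    rfl

end K253.H1QCoh
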