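import Groth.Agent.FlatMor.K253.NLMaps
import Groth.Agent.Models.NLFlat
import Groth.Agent.Flat2C.TorAmpRestr
import Groth.Agent.LoccohB.BCFlat

/-!
# Derived base change of a two-term complex with flat terms
-/

set_option autoImplicit false
universe u

open CategoryTheory CategoryTheory.Limits TensorProduct

attribute [local instance] HasDerivedCategory.standard

namespace K253.NLDer

open Groth.Agent.Models.DoubleCx Groth.Agent.LoccohB Groth.Agent.LoccohB.LBC Groth.Agent.LoccohB.BCUnit

section

universe v w v' w'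
variable {C : Type w} [Category.{v} C] [Preadditive C] [HasZeroObject C]
  {D : Type w'} [Category.{v'} D] [Preadditive D] [HasZeroObject D] (F : C ⥤ D) [F.Additive]

/-- an additive functor and two-term complexes -/
theorem nonempty_map_dbl {X Y : C} (f : X ⟶ Y) :
    Nonempty (dbl (F.map f) ≅ (F.mapHomologicalComplex (ComplexShape.up ℤ)).obj (dbl f)) := by
  let φ : dbl (F.map f) ⟶ (F.mapHomologicalComplex (ComplexShape.up ℤ)).obj (dbl f) :=
    HomologicalComplex.mkHomFromDouble _ (by decide) (F.map (i₀ f).inv) (F.map (i₁ f).inv)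
      (by
        change F.map (i₀ f).inv ≫ F.map ((dbl f).d (-1) 0) = F.map f ≫ F.map (i₁ f).inv
        have h1 : (i₀ f).inv ≫ (dbl f).d (-1) 0 = f ≫ (i₁ f).inv := by
          rw [dbl_d, Iso.inv_hom_id_assoc]
        exact (F.map_comp _ _).symm.trans ((congrArg F.map h1).trans (F.map_comp _ _)))
      (by
        intro k hk
        change F.map (i₁ f).inv ≫ F.map ((dbl f).d 0 k) = 0
        rw [HomologicalComplex.double_d_eq_zero₀ _ _ _ _ (by decide), F.map_zero, comp_zero])
  have : ∀ n : ℤ, IsIso (φ.f n) := by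
    intro n
    by_cases h : n = -1
    · subst h
      have : φ.f (-1) = (HomologicalComplex.doubleXIso₀ (F.map f) _).hom ≫ F.map (i₀ f).inv :=
        HomologicalComplex.mkHomFromDouble_f₀ _ _ _ _ _ _
      rw [this]
      exact IsIso.comp_isIso' inferInstance (inferInstanceAs (IsIso (F.map (i₀ f).inv)))
    · by_cases h' : n = 0
      · subst h'
        have : φ.f 0 = (HomologicalComplex.doubleXIso₁ (F.map f) _ (by decide)).hom ≫
            F.map (i₁ f).inv :=
          HomologicalComplex.mkHomFromDouble_f₁ _ _ _ _ _ _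
        rw [this]
        exact IsIso.comp_isIso' inferInstance (inferInstanceAs (IsIso (F.map (i₁ f).inv)))
      · exact (HomologicalComplex.isZero_double_X (F.map f) _ n h h').isIso
          (F.map_isZero (HomologicalComplex.isZero_double_X f _ n h h')) _
  have : IsIso φ := HomologicalComplex.Hom.isIso_of_components φ
  exact ⟨asIso φ⟩

end

variable {A B : Type u} [CommRing A] [CommRing B] [Algebra A B]

/-- termwise extension of scalars of a two-term complex -/
theorem nonempty_ext_dbl {M N : Type u} [AddCommGroup M] [AddCommGroup N] [Module A M] [Module A N]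
    (d : M →ₗ[A] N) :
    Nonempty ((extCx (algebraMap A B)).obj (dbl (ModuleCat.ofHom d)) ≅
      dbl (ModuleCat.ofHom (d.baseChange B))) := by
  obtain ⟨e⟩ := nonempty_map_dbl (ModuleCat.extendScalars.{u, u, u} (algebraMap A B))
    (ModuleCat.ofHom d)
  refine ⟨e.symm ≪≫ ?_⟩
  let a : (ModuleCat.extendScalars.{u, u, u} (algebraMap A B)).obj (ModuleCat.of A M) ≅
      ModuleCat.of B (B ⊗[A] M) := (FlatLBC.extEquiv A B (ModuleCat.of A M)).symm.toModuleIso
  let b : (ModuleCat.extendScalars.{u, u, u} (algebraMap A B)).obj (ModuleCat.of A N) ≅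
      ModuleCat.of B (B ⊗[A] N) := (FlatLBC.extEquiv A B (ModuleCat.of A N)).symm.toModuleIso
  have hab : a.hom ≫ ModuleCat.ofHom (d.baseChange B) =
      (ModuleCat.extendScalars.{u, u, u} (algebraMap A B)).map (ModuleCat.ofHom d) ≫ b.hom := by
    rw [← cancel_epi a.inv, Iso.inv_hom_id_assoc]
    ext x
    rfl
  have : IsIso (dblMap a.hom b.hom hab) := NLMaps.isIso_dblMap _ _ _
  exact asIso (dblMap a.hom b.hom hab)

/-- derived base change of a bounded above complex of flat modules -/
theorem nonempty_lbc_iso [DRing.HasLBaseChange (algebraMap A B)] (K : DRing.Cx A) (b : ℤ)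
    (hb : ∀ i, b < i → IsZero (K.X i)) (hK : ∀ i, Module.Flat A (K.X i)) :
    Nonempty ((DRing.LBaseChange (algebraMap A B)).obj (DRing.toD K) ≅
      DRing.toD ((extCx (algebraMap A B)).obj K)) := by
  obtain ⟨P, p, hP0, hPp, hp⟩ := Groth.Agent.Flat2C.TorAmpRestr.exists_projective_resolution K b
    (fun i hi => HomologicalComplex.ExactAt.of_isZero (hb i hi))
  have : P.IsStrictlyLE b := by
    rw [CochainComplex.isStrictlyLE_iff]
    exact fun i hi => hP0 i hi
  have : P.IsKProjective := CochainComplex.isKProjective_of_projective P b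
  have hflat : ∀ M : ModuleCat.{u} A, Module.Flat A M → BCFlat.FlatOver A A M := by
    intro M hM
    exact BCFlat.flatOver_of_flat A A M
  have h1 : QuasiIso ((extCx (algebraMap A B)).map p) :=
    (BCFlat.adapted A B A B).quasiIso_map (BCFlat.flatOver_biprod A A) p b hP0 hb
      (fun i => hflat _ (Groth.Agent.Flat2C.TorAmpRestr.flat_of_projective (hPp i)))
      (fun i => hflat _ (hK i))
  have h2 := BCFlat.isIso_lbcQCounit_of_res (algebraMap A B) p h1
  exact ⟨@asIso _ _ _ _ ((lbcQCounit (algebraMap A B)).app K) h2⟩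

end K253.NLDer
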