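import Groth.Agent.FlatMor.K253.CotInj
import Groth.Agent.Models.NLBasic

/-!
# Functoriality and homotopy invariance of the maps `NLCx.map`, `NLCx.bcMap`
-/

universe u

open CategoryTheory CategoryTheory.Limits TensorProduct

namespace K253.NLMaps

open Groth.Agent.Models.DoubleCx Groth.Agent.Models.NLBasic

section

universe v w
variable {C : Type w} [Category.{v} C] [Preadditive C] [HasZeroObject C]

/-- a map of two-term complexes with invertible components is invertible -/
theorem isIso_dblMap {X Y X' Y' : C} {f : X ⟶ Y} {f' : X' ⟶ Y'} (a : X ⟶ X') (b : Y ⟶ Y')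
    (h : a ≫ f' = f ≫ b) [IsIso a] [IsIso b] : IsIso (dblMap a b h) := by
  have h' : inv a ≫ f = f' ≫ inv b := by
    rw [IsIso.inv_comp_eq, ← Category.assoc, h, Category.assoc, IsIso.hom_inv_id,
      Category.comp_id]
  refine ⟨dblMap (inv a) (inv b) h', ?_, ?_⟩
  · rw [dblMap_comp, ← dblMap_id]
    congr 1 <;> simp
  · rw [dblMap_comp, ← dblMap_id]
    congr 1 <;> simp

end

section Same

variable {R S R' : Type u} [CommRing R] [CommRing S] [CommRing R']
  [Algebra R S] [Algebra R' S] [Algebra R R'] [IsScalarTower R R' S]
  {P : Algebra.Extension.{u} R S} {P' : Algebra.Extension.{u} R' S}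

theorem map_comm (f : P.Hom P') :
    ModuleCat.ofHom (Algebra.Extension.Cotangent.map f) ≫ ModuleCat.ofHom P'.cotangentComplex =
      ModuleCat.ofHom P.cotangentComplex ≫
        ModuleCat.ofHom (Algebra.Extension.CotangentSpace.map f) := by
  ext x
  exact (Algebra.Extension.CotangentSpace.map_cotangentComplex f x).symm

theorem map_eq (f : P.Hom P') :
    NLCx.map f = dblMap (ModuleCat.ofHom (Algebra.Extension.Cotangent.map f))
      (ModuleCat.ofHom (Algebra.Extension.CotangentSpace.map f)) (map_comm f) := rfl

theorem isIso_map (f : P.Hom P')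
    (h1 : Function.Bijective (Algebra.Extension.Cotangent.map f))
    (h2 : Function.Bijective (Algebra.Extension.CotangentSpace.map f)) :
    IsIso (NLCx.map f) := by
  rw [map_eq]
  have : IsIso (ModuleCat.ofHom (Algebra.Extension.Cotangent.map f)) :=
    (ConcreteCategory.isIso_iff_bijective _).2 h1
  have : IsIso (ModuleCat.ofHom (Algebra.Extension.CotangentSpace.map f)) :=
    (ConcreteCategory.isIso_iff_bijective _).2 h2
  exact isIso_dblMap _ _ _

end Same

section BC

variable {R S R' S' : Type u} [CommRing R] [CommRing S] [CommRing R'] [CommRing S']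
  [Algebra R S] [Algebra R' S'] [Algebra R R'] [Algebra S S'] [Algebra R S']
  [IsScalarTower R R' S']
  {P : Algebra.Extension.{u} R S} {P' : Algebra.Extension.{u} R' S'}

theorem bc_comm (f : P.Hom P') :
    ModuleCat.ofHom (LinearMap.liftBaseChange S' (Algebra.Extension.Cotangent.map f)) ≫
      ModuleCat.ofHom P'.cotangentComplex =
      ModuleCat.ofHom (P.cotangentComplex.baseChange S') ≫
        ModuleCat.ofHom (LinearMap.liftBaseChange S' (Algebra.Extension.CotangentSpace.map f)) := by
  ext x
  simpa using (Algebra.Extension.CotangentSpace.map_cotangentComplex f x).symm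

theorem bcMap_eq (f : P.Hom P') :
    NLCx.bcMap f = dblMap
      (ModuleCat.ofHom (LinearMap.liftBaseChange S' (Algebra.Extension.Cotangent.map f)))
      (ModuleCat.ofHom (LinearMap.liftBaseChange S' (Algebra.Extension.CotangentSpace.map f)))
      (bc_comm f) := rfl

theorem isIso_bcMap (f : P.Hom P')
    (h1 : Function.Bijective (LinearMap.liftBaseChange S' (Algebra.Extension.Cotangent.map f)))
    (h2 : Function.Bijective
      (LinearMap.liftBaseChange S' (Algebra.Extension.CotangentSpace.map f))) :
    IsIso (NLCx.bcMap f) := by
  rw [bcMap_eq]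
  have : IsIso (ModuleCat.ofHom
    (LinearMap.liftBaseChange S' (Algebra.Extension.Cotangent.map f))) :=
    (ConcreteCategory.isIso_iff_bijective _).2 h1
  have : IsIso (ModuleCat.ofHom
    (LinearMap.liftBaseChange S' (Algebra.Extension.CotangentSpace.map f))) :=
    (ConcreteCategory.isIso_iff_bijective _).2 h2
  exact isIso_dblMap _ _ _

/-- `bcMap` and composition with a morphism of extensions over the target square -/
theorem bcMap_comp {P'' : Algebra.Extension.{u} R' S'} (f : P.Hom P') (g : P'.Hom P'') :
    NLCx.bcMap (g.comp f) = NLCx.bcMap f ≫ NLCx.map g := by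
  refine (bcMap_eq _).trans (Eq.trans ?_ (dblMap_comp _ _ (bc_comm f) _ _ (map_comm g)).symm)
  congr 1
  · rw [← ModuleCat.ofHom_comp]
    congr 1
    refine LinearMap.ext fun y => ?_
    induction y with
    | zero => simp only [map_zero]
    | add a b ha hb => simp only [map_add, ha, hb]
    | tmul a b =>
      rw [LinearMap.comp_apply, LinearMap.liftBaseChange_tmul, LinearMap.liftBaseChange_tmul,
        map_smul, Algebra.Extension.Cotangent.map_comp]
      rfl
  · rw [← ModuleCat.ofHom_comp]
    congr 1
    refine LinearMap.ext fun y => ?_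
    induction y with
    | zero => simp only [map_zero]
    | add a b ha hb => simp only [map_add, ha, hb]
    | tmul a b =>
      rw [LinearMap.comp_apply, LinearMap.liftBaseChange_tmul, LinearMap.liftBaseChange_tmul,
        map_smul, Algebra.Extension.CotangentSpace.map_comp]
      rfl

variable [IsScalarTower R S S']

/-- `bcMap` is independent of the morphism of extensions up to homotopy -/
noncomputable def bcHomotopy (f g : P.Hom P') : Homotopy (NLCx.bcMap f) (NLCx.bcMap g) :=
  (Homotopy.ofEq (bcMap_eq f)).trans ((dblHomotopy _ _ _ _ (bc_comm f) (bc_comm g)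
    (ModuleCat.ofHom (LinearMap.liftBaseChange S' (f.sub g)))
    (by
      rw [← ModuleCat.ofHom_comp, ← ModuleCat.ofHom_add]
      congr 1
      refine LinearMap.ext fun y => ?_
      induction y with
      | zero => simp only [map_zero]
      | add a b ha hb => simp only [map_add, ha, hb]
      | tmul a b =>
        rw [LinearMap.add_apply, LinearMap.comp_apply, LinearMap.liftBaseChange_tmul,
          LinearMap.liftBaseChange_tmul, LinearMap.baseChange_tmul, LinearMap.liftBaseChange_tmul,
          ← smul_add]
        congr 1
        rw [← sub_eq_iff_eq_add]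
        exact LinearMap.congr_fun (Algebra.Extension.Cotangent.map_sub_map f g) b)
    (by
      rw [← ModuleCat.ofHom_comp, ← ModuleCat.ofHom_add]
      congr 1
      refine LinearMap.ext fun y => ?_
      induction y with
      | zero => simp only [map_zero]
      | add a b ha hb => simp only [map_add, ha, hb]
      | tmul a b =>
        rw [LinearMap.add_apply, LinearMap.comp_apply, LinearMap.liftBaseChange_tmul,
          LinearMap.liftBaseChange_tmul, LinearMap.liftBaseChange_tmul, map_smul,
          ← smul_add]
        congr 1
        rw [← sub_eq_iff_eq_add]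
        exact LinearMap.congr_fun (Algebra.Extension.CotangentSpace.map_sub_map f g) b)).trans
    (Homotopy.ofEq (bcMap_eq g).symm))

end BC

section Equiv

variable {R S : Type u} [CommRing R] [CommRing S] [Algebra R S]
  {P P' : Algebra.Extension.{u} R S}

/-- mutually inverse-up-to-homotopy maps between the complexes of two extensions -/
theorem exists_homotopyEquiv (f : P.Hom P') (g : P'.Hom P) :
    ∃ e : HomotopyEquiv (NLCx.cx P) (NLCx.cx P'), e.hom = NLCx.map f :=
  ⟨nlcxEquiv f g, rfl⟩

end Equiv

section Repl

variable {V : Type*} [Category V] [Preadditive V] {ι : Type*} {c : ComplexShape ι}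

/-- replace the map of a homotopy equivalence by a homotopic one -/
noncomputable def homotopyEquivOfHomotopy {K L : HomologicalComplex V c} (e : HomotopyEquiv K L)
    (f : K ⟶ L) (h : Homotopy f e.hom) : HomotopyEquiv K L where
  hom := f
  inv := e.inv
  homotopyHomInvId := (h.compRight e.inv).trans e.homotopyHomInvId
  homotopyInvHomId := (h.compLeft e.inv).trans e.homotopyInvHomId

end Repl

section Main

variable (R S R' S' : Type u) [CommRing R] [CommRing S] [CommRing R']
    [CommRing S'] [Algebra R S] [Algebra R' S'] [Algebra R R'] [Algebra S S'] [Algebra R S']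
    [IsScalarTower R R' S'] [IsScalarTower R S S']

/-- if the base-changed presentation of the presentation on all elements has invertible comparison
map, then `NL_{S/R} ⊗ S' → NL_{S'/R'}` is a homotopy equivalence -/
theorem exists_homotopyEquiv_bcMapSelf (G' : Algebra.Generators R' S' S)
    (h : ∀ i, G'.val i = algebraMap S S' ((Algebra.Generators.self R S).val i))
    (hi : IsIso (NLCx.bcMap (S' := S')
      (NLCx.sameVarsHom (Algebra.Generators.self R S) G' h).toExtensionHom)) :
    ∃ e : HomotopyEquiv (NLCx.bcCx (Algebra.Generators.self R S).toExtension S')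
          (NLCx.cx (Algebra.Generators.self R' S').toExtension),
        e.hom = NLCx.bcMapSelf R S R' S' := by
  let f := (NLCx.sameVarsHom (Algebra.Generators.self R S) G' h).toExtensionHom
  let g : G'.toExtension.Hom (Algebra.Generators.self R' S').toExtension :=
    (G'.defaultHom (Algebra.Generators.self R' S')).toExtensionHom
  let g' : (Algebra.Generators.self R' S').toExtension.Hom G'.toExtension :=
    ((Algebra.Generators.self R' S').defaultHom G').toExtensionHom
  obtain ⟨e1, he1⟩ := exists_homotopyEquiv g g'
  let e2 : HomotopyEquiv (NLCx.bcCx (Algebra.Generators.self R S).toExtension S')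
      (NLCx.cx (Algebra.Generators.self R' S').toExtension) :=
    (HomotopyEquiv.ofIso (@asIso _ _ _ _ (NLCx.bcMap f) hi)).trans e1
  have he2 : e2.hom = NLCx.bcMap (g.comp f) := by
    rw [bcMap_comp, ← he1]
    rfl
  exact ⟨homotopyEquivOfHomotopy e2 (NLCx.bcMapSelf R S R' S')
    ((bcHomotopy _ (g.comp f)).trans (Homotopy.ofEq he2.symm)), rfl⟩

end Main

end K253.NLMaps
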