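import Groth.Agent.KSix.K240.RelChart

/-!
# Changing charts in relative pseudo-coherence
-/

set_option autoImplicit false
universe u
open CategoryTheory CategoryTheory.Limits AlgebraicGeometry
open K240.PushTest K240.ChartChange K240.RelData K240.RelChart
attribute [local instance] HasDerivedCategory.standard

namespace K253.RelPCChart

variable {X Y : Scheme.{u}} (f : X ⟶ Y)

/-- Charts exist for ring maps of finite type. -/
lemma exists_isChart {U : X.Opens} {V : Y.Opens} (h : U ≤ f ⁻¹ᵁ V)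
    (h1 : (f.appLE V U h).hom.FiniteType) :
    ∃ (n : ℕ) (φ : MvPolynomial (Fin n) Γ(Y, V) →+* Γ(X, U)), DerSch.IsChart f U V h φ := by
  let _ := (f.appLE V U h).hom.toAlgebra
  have h2 : Algebra.FiniteType Γ(Y, V) Γ(X, U) := h1
  obtain ⟨n, φ, hφ⟩ := Algebra.FiniteType.iff_quotient_mvPolynomial''.1 h2
  refine ⟨n, φ, hφ, ?_⟩
  ext r
  exact φ.commutes r

lemma finiteType_res {U : X.Opens} (hU : IsAffineOpen U) (g : Γ(X, U)) :
    (X.presheaf.map (homOfLE (X.basicOpen_le g)).op).hom.FiniteType := by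
  have := hU.isLocalization_basicOpen g
  let _ := (X.presheaf.map (homOfLE (X.basicOpen_le g)).op).hom.toAlgebra
  have h1 : IsLocalization.Away g Γ(X, X.basicOpen g) := this
  have h2 : Algebra.FiniteType Γ(X, U) Γ(X, X.basicOpen g) := 
    IsLocalization.finiteType_of_monoid_fg (Submonoid.powers g) _
  exact h2

/-- If every point of an affine `U` lies in a chart passing the test, some chart on `U` does. -/
lemma exists_chartPC {U : X.Opens} (hU : IsAffineOpen U) {V : Y.Opens} (hV : IsAffineOpen V)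
    (h : U ≤ f ⁻¹ᵁ V) (h1 : (f.appLE V U h).hom.FiniteType) {m : ℤ} {K : DCoh.D X}
    (H : ∀ x ∈ U, At f m K x) :
    ∃ (n : ℕ) (φ : MvPolynomial (Fin n) Γ(Y, V) →+* Γ(X, U)),
      DerSch.IsChart f U V h φ ∧ DerSch.ChartPC m K U V φ := by
  obtain ⟨n, φ, hφ⟩ := exists_isChart f h h1
  exact ⟨n, φ, hφ, (chartPC_iff f hU hV h φ hφ m K).2 (Datum.test_of_at _ fun w => H _ w.2)⟩

lemma at_of_chartPC {U : X.Opens} (hU : IsAffineOpen U) {V : Y.Opens} (hV : IsAffineOpen V)
    (h : U ≤ f ⁻¹ᵁ V) {m : ℤ} {K : DCoh.D X} {n : ℕ}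
    {φ : MvPolynomial (Fin n) Γ(Y, V) →+* Γ(X, U)} (hφ : DerSch.IsChart f U V h φ)
    (H : DerSch.ChartPC m K U V φ) (x : X) (hx : x ∈ U) : At f m K x :=
  ⟨chartDatum f hU hV h φ hφ, ⟨x, hx⟩, rfl, (chartPC_iff f hU hV h φ hφ m K).1 H⟩

end K253.RelPCChart
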