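import Groth.Agent.FlatMor.K253.RelPC
import Groth.Agent.CohtopB.DTrunc
import Groth.Agent.PerfB.StupidK
import Groth.Agent.PCoh.K225.PC2

/-!
# Relative pseudo-coherence of complexes from terms and from cohomology sheaves
-/

set_option autoImplicit false
universe u
open CategoryTheory CategoryTheory.Limits AlgebraicGeometry CategoryTheory.Pretriangulated
open DerivedCategory
open Groth.Agent.PerfA Groth.Agent.PerfA.Restrict Groth.Agent.PerfC.PcLocal
open Groth.Agent.PerfC.ClosedImmPc K240.PushTest K240.ChartChange K240.RelData K240.RelChart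
open K240.RelBasic
open K253.RelPC
attribute [local instance] HasDerivedCategory.standard

namespace K253.RelPCDev

variable {X Y : Scheme.{u}} {f : X ⟶ Y}

/-- Shifts. -/
theorem shift_iff {m n m' : ℤ} (hm : n + m = m') (K : DCoh.D X) :
    DerSch.IsPseudoCoherentRel f m (K⟦n⟧) ↔ DerSch.IsPseudoCoherentRel f m' K := by
  have key (D : Datum f) : D.test m (K⟦n⟧) ↔ D.test m' K := by
    let e : (pushD D.i).obj ((restrictD D.j).obj (K⟦n⟧)) ≅
        ((pushD D.i).obj ((restrictD D.j).obj K))⟦n⟧ :=
      ((restrictD D.j ⋙ pushD D.i).commShiftIso n).app K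
    exact Iff.trans ⟨pc_of_iso e, pc_of_iso e.symm⟩
      (Groth.Agent.Cohder.PCTri2.isPseudoCoherentD_shift_iff hm _)
  constructor
  · intro h
    have := h.1
    rw [isPseudoCoherentRel_iff_forall] at h ⊢
    exact fun D => (key D).1 (h D)
  · intro h
    have := h.1
    rw [isPseudoCoherentRel_iff_forall] at h ⊢
    exact fun D => (key D).2 (h D)

/-- A module placed in degree `b`. -/
theorem single_of_inD {m b : ℤ} {M : X.Modules}
    (h : DerSch.IsPseudoCoherentRel f (m - b) (DCoh.inD X M)) :
    DerSch.IsPseudoCoherentRel f m ((singleFunctor X.Modules b).obj M) := by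
  have e : (DCoh.inD X M)⟦-b⟧ ≅ (singleFunctor X.Modules b).obj M :=
    ((singleFunctors X.Modules).shiftIso (-b) b 0 (by lia)).app M
  exact isPseudoCoherentRel_of_iso e ((shift_iff (m' := m - b) (by lia) _).2 h)

theorem of_homology_aux [LocallyOfFiniteType f] (m : ℤ) (k : ℕ) : ∀ (E : DCoh.D X)
    (_ : E.IsLE (m - 1 + k))
    (_ : ∀ i : ℤ, DerSch.IsPseudoCoherentRel f (m - i) (DCoh.inD X (DCoh.HD E i))),
    DerSch.IsPseudoCoherentRel f m E := by
  induction k with
  | zero =>
    intro E hE _
    exact of_vanish fun i hi => isZero_of_isLE E (m - 1 + (0 : ℕ)) i (by push_cast; lia)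
  | succ k ih =>
    intro E hE h
    let b : ℤ := m - 1 + (k + 1 : ℕ)
    have hT := TStructure.t.triangleLTGE_distinguished b E
    refine isPseudoCoherentRel_obj₂ m _ hT ?_ ?_
    · refine ih _ ?_ fun i => ?_
      · have : ((TStructure.t.truncLT b).obj E).IsLE (b - 1) := inferInstance
        have hb : b - 1 = m - 1 + k := by simp only [b]; push_cast; lia
        rw [← hb]
        exact this
      · by_cases hi : i < b
        · have := Groth.Agent.CohtopB.DTrunc.isIso_homology_map_truncLTι E b i hi
          exact isPseudoCoherentRel_of_iso ((singleFunctor X.Modules 0).mapIso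
            (asIso ((homologyFunctor _ i).map ((TStructure.t.truncLTι b).app E))).symm) (h i)
        · have h0 : IsZero (DCoh.HD ((TStructure.t.truncLT b).obj E) i) :=
            isZero_of_isLE _ (b - 1) i (by lia)
          have h1 : IsZero (DCoh.inD X (DCoh.HD ((TStructure.t.truncLT b).obj E) i)) :=
            Functor.map_isZero _ h0
          exact of_vanish fun j _ => Functor.map_isZero (homologyFunctor _ j) h1
    · have h1 : ((TStructure.t.truncGE b).obj E).IsLE b := by
        rw [isLE_iff]
        intro i hi
        have := Groth.Agent.CohtopB.DTrunc.isIso_homology_map_truncGEπ E b i (by lia)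
        exact (isZero_of_isLE E b i hi).of_iso
          (asIso ((homologyFunctor _ i).map ((TStructure.t.truncGEπ b).app E))).symm
      obtain ⟨e⟩ := Groth.Agent.CohtopB.DTrunc.exists_iso_single ((TStructure.t.truncGE b).obj E) b
      have := Groth.Agent.CohtopB.DTrunc.isIso_homology_map_truncGEπ E b b le_rfl
      exact isPseudoCoherentRel_of_iso ((singleFunctor X.Modules b).mapIso
        (asIso ((homologyFunctor _ b).map ((TStructure.t.truncGEπ b).app E))) ≪≫ e.symm)
        (single_of_inD (h b))

/-- Relative pseudo-coherence from cohomology sheaves. -/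
theorem of_homology (m : ℤ) (E : DCoh.D X) (b : ℤ) (hb : E.IsLE b)
    (h : ∀ i : ℤ, DerSch.IsPseudoCoherentRel f (m - i) (DCoh.inD X (DCoh.HD E i))) :
    DerSch.IsPseudoCoherentRel f m E := by
  have := (h 0).1
  refine of_homology_aux m (b - m + 1).toNat E ?_ h
  rw [isLE_iff] at hb ⊢
  intro i hi
  exact hb i (by have := Int.self_le_toNat (b - m + 1); lia)

open Groth.Agent.PerfB.StupidK Groth.Agent.Dcoh.Sigma in
theorem of_terms_aux [LocallyOfFiniteType f] (m : ℤ) (k : ℕ) : ∀ (F : CochainComplex X.Modules ℤ)
    (_ : ∀ i : ℤ, m - 1 + k < i → IsZero (F.X i))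
    (_ : ∀ i : ℤ, DerSch.IsPseudoCoherentRel f (m - i) (DCoh.inD X (F.X i))),
    DerSch.IsPseudoCoherentRel f m (DCoh.toD X F) := by
  induction k with
  | zero =>
    intro F hF _
    refine of_vanish fun i hi => ?_
    refine IsZero.of_iso ?_ ((homologyFunctorFactors X.Modules i).app F)
    exact ShortComplex.isZero_homology_of_isZero_X₂ _ (hF i (by push_cast; lia))
  | succ k ih =>
    intro F hF h
    let b : ℤ := m - 1 + (k + 1 : ℕ)
    have hT := triangleOfSES_distinguished (shortExact_S F b)
    refine isPseudoCoherentRel_obj₂ m _ hT ?_ ?_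
    · obtain ⟨e⟩ := K225.PC.iso_single' (sig F b) b fun i hi => by
        rcases lt_or_gt_of_ne hi with h1 | h1
        · exact isZero_sig_X F (not_le.2 h1)
        · have := isIso_sigι_f F (n := b) h1.le
          exact (hF i h1).of_iso (asIso ((sigι F b).f i))
      have := isIso_sigι_f F (n := b) le_rfl
      exact isPseudoCoherentRel_of_iso ((singleFunctor X.Modules b).mapIso
        (asIso ((sigι F b).f b)).symm ≪≫ e.symm) (single_of_inD (h b))
    · refine ih _ (fun i hi => isZero_quo_X F ?_) fun i => ?_
      · simp only [b]; push_cast; lia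
      · by_cases hi : i < b
        · exact isPseudoCoherentRel_of_iso ((singleFunctor X.Modules 0).mapIso
            (quoXIso F hi).symm) (h i)
        · have h1 : IsZero (DCoh.inD X ((quo F b).X i)) :=
            Functor.map_isZero _ (isZero_quo_X F (not_lt.1 hi))
          exact of_vanish fun j _ => Functor.map_isZero (homologyFunctor _ j) h1

/-- Relative pseudo-coherence from the terms of a complex. -/
theorem of_terms (m : ℤ) (F : CochainComplex X.Modules ℤ) (b : ℤ)
    (hb : ∀ i : ℤ, b < i → IsZero (F.X i))
    (h : ∀ i : ℤ, DerSch.IsPseudoCoherentRel f (m - i) (DCoh.inD X (F.X i))) :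
    DerSch.IsPseudoCoherentRel f m (DCoh.toD X F) := by
  have := (h 0).1
  refine of_terms_aux m (b - m + 1).toNat F ?_ h
  intro i hi
  exact hb i (by have := Int.self_le_toNat (b - m + 1); lia)

end K253.RelPCDev
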